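import Cfsg.Agent.H337.HT.Num
import Cfsg.Agent.S2119
import Cfsg.Agent.LFourA.AltPsiAut

/-!
# S3540, task B9: alternating groups of degree at most 20 (helper138)
-/

set_option autoImplicit false

universe u

namespace Cfsg.Agent.H138.HT

open Cfsg.Agent.H337.HT

theorem card_alt (n : ℕ) (hn : 2 ≤ n) : 2 * Nat.card ↥(alternatingGroup (Fin n)) = n.factorial := by
  have : Nontrivial (Fin n) := Fin.nontrivial_iff_two_le.2 hn
  rw [Nat.card_eq_fintype_card, two_mul_card_alternatingGroup, Fintype.card_perm, Fintype.card_fin]

theorem card_aut_alt (n : ℕ) (hn : 4 ≤ n) (h6 : n ≠ 6) :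
    Nat.card (MulAut ↥(alternatingGroup (Fin n))) = n.factorial := by
  rw [← Nat.card_congr (Equiv.ofBijective _ (S2119.result n hn h6)), Nat.card_eq_fintype_card, Fintype.card_perm,
    Fintype.card_fin]

open Cfsg.Agent.LFourA.AltPsiAut in
theorem card_aut_six : Nat.card (MulAut (alternatingGroup (Fin 6))) ≤ 1440 := by
  classical
  have : Finite (MulAut (alternatingGroup (Fin 6))) :=
    Finite.of_injective (fun σ => (σ : alternatingGroup (Fin 6) → alternatingGroup (Fin 6))) DFunLike.coe_injective
  have h1 : Nat.card NE ≤ 720 := by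
    choose σ hσ using fun a : NE => exists_perm a.2
    have h2 : Function.Injective σ := by
      intro a b hab
      apply Subtype.ext
      refine MulEquiv.ext fun x => Subtype.ext ?_
      rw [hσ, hσ, hab]
    have h3 := Nat.card_le_card_of_injective σ h2
    rw [Nat.card_perm, Nat.card_fin] at h3
    exact h3
  by_cases h : ∃ β : MulAut (alternatingGroup (Fin 6)), β ∉ NE
  · obtain ⟨β, hβ⟩ := h
    have hmem : ∀ a : MulAut (alternatingGroup (Fin 6)), a ∉ NE → β⁻¹ * a ∈ NE := fun a ha => inv_mul_mem hβ ha
    let f : MulAut (alternatingGroup (Fin 6)) → NE × Bool := fun a =>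
      if ha : a ∈ NE then (⟨a, ha⟩, true) else (⟨β⁻¹ * a, hmem a ha⟩, false)
    have hf : Function.Injective f := by
      intro a b hab
      by_cases ha : a ∈ NE <;> by_cases hb : b ∈ NE <;> simp [f, ha, hb] at hab <;> exact hab
    have h2 := Nat.card_le_card_of_injective f hf
    rw [Nat.card_prod, Nat.card_eq_fintype_card (α := Bool), Fintype.card_bool] at h2
    omega
  · push Not at h
    have h2 : Nat.card (MulAut (alternatingGroup (Fin 6))) ≤ Nat.card NE :=
      Nat.card_le_card_of_injective (fun a => (⟨a, h a⟩ : NE)) fun a b hab => congrArg Subtype.val hab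
    omega

/-- the small ones, by size -/
theorem dead_size {n m : ℕ} (o A b : ℕ) (hn : 13 ≤ n) (ho : Nat.card (alternatingGroup (Fin m)) = o)
    (hA : Nat.card (MulAut (alternatingGroup (Fin m))) ≤ A) (hb1 : 1 ≤ b)
    (hb : (List.range b).all (fun q => Nat.ble q 1 || Nat.ble 2 (Nat.gcd q o)) = true)
    (h : Nat.ble (A ^ 2) (2 * b ^ 11) = true) : Dead n (alternatingGroup (Fin m)) := by
  refine dead_of_pow (b := b) (by omega) (fun q hq hc => ?_) ?_
  · rw [ho] at hc
    exact le_of_coprime hb hq hc
  · have h1 := Nat.le_of_ble_eq_true h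
    have h2 : b ^ 11 ≤ b ^ (n - 2) := Nat.pow_le_pow_right hb1 (by omega)
    have h3 := Nat.pow_le_pow_left hA 2
    omega

theorem dead_5 {n : ℕ} (hn : 13 ≤ n) : Dead n (alternatingGroup (Fin 5)) :=
  dead_size 60 120 7 hn (by
    have h := card_alt 5 (by norm_num)
    have h2 : Nat.factorial 5 = 2 * 60 := by decide
    omega) (by rw [card_aut_alt 5 (by norm_num) (by norm_num)]; decide) (by norm_num) (by decide) (by decide)

theorem dead_6 {n : ℕ} (hn : 13 ≤ n) : Dead n (alternatingGroup (Fin 6)) :=
  dead_size 360 1440 7 hn (by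
    have h := card_alt 6 (by norm_num)
    have h2 : Nat.factorial 6 = 2 * 360 := by decide
    omega) card_aut_six (by norm_num) (by decide) (by decide)

theorem dead_7 {n : ℕ} (hn : 13 ≤ n) : Dead n (alternatingGroup (Fin 7)) :=
  dead_size 2520 5040 11 hn (by
    have h := card_alt 7 (by norm_num)
    have h2 : Nat.factorial 7 = 2 * 2520 := by decide
    omega) (by rw [card_aut_alt 7 (by norm_num) (by norm_num)]; decide) (by norm_num) (by decide) (by decide)

theorem dead_8 {n : ℕ} (hn : 13 ≤ n) : Dead n (alternatingGroup (Fin 8)) :=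
  dead_size 20160 40320 11 hn (by
    have h := card_alt 8 (by norm_num)
    have h2 : Nat.factorial 8 = 2 * 20160 := by decide
    omega) (by rw [card_aut_alt 8 (by norm_num) (by norm_num)]; decide) (by norm_num) (by decide) (by decide)

theorem dead_9 {n : ℕ} (hn : 13 ≤ n) : Dead n (alternatingGroup (Fin 9)) :=
  dead_size 181440 362880 11 hn (by
    have h := card_alt 9 (by norm_num)
    have h2 : Nat.factorial 9 = 2 * 181440 := by decide
    omega) (by rw [card_aut_alt 9 (by norm_num) (by norm_num)]; decide) (by norm_num) (by decide) (by decide)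

theorem dead_10 {n : ℕ} (hn : 13 ≤ n) : Dead n (alternatingGroup (Fin 10)) :=
  sieve_dead (o := 1814400) (A := 3628800) 11 5 3 (by
    have h := card_alt 10 (by norm_num)
    have h2 : Nat.factorial 10 = 2 * 1814400 := by decide
    omega) (by rw [card_aut_alt 10 (by norm_num) (by norm_num)]; decide) (by norm_num) (by norm_num) (by norm_num)
    (by decide) (by decide +kernel) hn

theorem dead_11 {n : ℕ} (hn : 13 ≤ n) : Dead n (alternatingGroup (Fin 11)) :=
  sieve_dead (o := 19958400) (A := 39916800) 13 11 4 (by
    have h := card_alt 11 (by norm_num)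
    have h2 : Nat.factorial 11 = 2 * 19958400 := by decide
    omega) (by rw [card_aut_alt 11 (by norm_num) (by norm_num)]; decide) (by norm_num) (by norm_num) (by norm_num)
    (by decide) (by decide +kernel) hn

theorem dead_12 {n : ℕ} (hn : 13 ≤ n) : Dead n (alternatingGroup (Fin 12)) :=
  sieve_dead (o := 239500800) (A := 479001600) 13 24 6 (by
    have h := card_alt 12 (by norm_num)
    have h2 : Nat.factorial 12 = 2 * 239500800 := by decide
    omega) (by rw [card_aut_alt 12 (by norm_num) (by norm_num)]; decide) (by norm_num) (by norm_num) (by norm_num)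
    (by decide) (by decide +kernel) hn

theorem dead_13 {n : ℕ} (hn : 13 ≤ n) : Dead n (alternatingGroup (Fin 13)) :=
  sieve_dead (o := 3113510400) (A := 6227020800) 17 41 6 (by
    have h := card_alt 13 (by norm_num)
    have h2 : Nat.factorial 13 = 2 * 3113510400 := by decide
    omega) (by rw [card_aut_alt 13 (by norm_num) (by norm_num)]; decide) (by norm_num) (by norm_num) (by norm_num)
    (by decide) (by decide +kernel) hn

theorem dead_14 {n : ℕ} (hn : 13 ≤ n) : Dead n (alternatingGroup (Fin 14)) :=
  sieve_dead (o := 43589145600) (A := 87178291200) 17 76 8 (by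
    have h := card_alt 14 (by norm_num)
    have h2 : Nat.factorial 14 = 2 * 43589145600 := by decide
    omega) (by rw [card_aut_alt 14 (by norm_num) (by norm_num)]; decide) (by norm_num) (by norm_num) (by norm_num)
    (by decide) (by decide +kernel) hn

theorem dead_15 {n : ℕ} (hn : 13 ≤ n) : Dead n (alternatingGroup (Fin 15)) :=
  sieve_dead (o := 653837184000) (A := 1307674368000) 17 134 10 (by
    have h := card_alt 15 (by norm_num)
    have h2 : Nat.factorial 15 = 2 * 653837184000 := by decide
    omega) (by rw [card_aut_alt 15 (by norm_num) (by norm_num)]; decide) (by norm_num) (by norm_num) (by norm_num)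
    (by decide) (by decide +kernel) hn

theorem dead_16 {n : ℕ} (hn : 13 ≤ n) : Dead n (alternatingGroup (Fin 16)) :=
  sieve_dead (o := 10461394944000) (A := 20922789888000) 17 233 12 (by
    have h := card_alt 16 (by norm_num)
    have h2 : Nat.factorial 16 = 2 * 10461394944000 := by decide
    omega) (by rw [card_aut_alt 16 (by norm_num) (by norm_num)]; decide) (by norm_num) (by norm_num) (by norm_num)
    (by decide) (by decide +kernel) hn

theorem dead_17 {n : ℕ} (hn : 13 ≤ n) : Dead n (alternatingGroup (Fin 17)) :=
  sieve_dead (o := 177843714048000) (A := 355687428096000) 19 398 13 (by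
    have h := card_alt 17 (by norm_num)
    have h2 : Nat.factorial 17 = 2 * 177843714048000 := by decide
    omega) (by rw [card_aut_alt 17 (by norm_num) (by norm_num)]; decide) (by norm_num) (by norm_num) (by norm_num)
    (by decide) (by decide +kernel) hn

theorem dead_18 {n : ℕ} (hn : 13 ≤ n) : Dead n (alternatingGroup (Fin 18)) :=
  sieve_dead (o := 3201186852864000) (A := 6402373705728000) 19 685 15 (by
    have h := card_alt 18 (by norm_num)
    have h2 : Nat.factorial 18 = 2 * 3201186852864000 := by decide
    omega) (by rw [card_aut_alt 18 (by norm_num) (by norm_num)]; decide) (by norm_num) (by norm_num) (by norm_num)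
    (by decide) (by decide +kernel) hn

theorem dead_19 {n : ℕ} (hn : 13 ≤ n) : Dead n (alternatingGroup (Fin 19)) :=
  sieve_dead (o := 60822550204416000) (A := 121645100408832000) 23 1178 15 (by
    have h := card_alt 19 (by norm_num)
    have h2 : Nat.factorial 19 = 2 * 60822550204416000 := by decide
    omega) (by rw [card_aut_alt 19 (by norm_num) (by norm_num)]; decide) (by norm_num) (by norm_num) (by norm_num)
    (by decide) (by decide +kernel) hn

theorem dead_20 {n : ℕ} (hn : 13 ≤ n) : Dead n (alternatingGroup (Fin 20)) :=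
  sieve_dead (o := 1216451004088320000) (A := 2432902008176640000) 23 2047 17 (by
    have h := card_alt 20 (by norm_num)
    have h2 : Nat.factorial 20 = 2 * 1216451004088320000 := by decide
    omega) (by rw [card_aut_alt 20 (by norm_num) (by norm_num)]; decide) (by norm_num) (by norm_num) (by norm_num)
    (by decide) (by decide +kernel) hn

/-- **Task B9.** -/
theorem dead_alt_small {T : Type u} [Group T] {n m : ℕ} (hn : 13 ≤ n) (hm : 5 ≤ m) (hm2 : m ≤ 20)
    (e : T ≃* alternatingGroup (Fin m)) : Dead n T := by
  refine Dead.congr e.symm ?_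
  interval_cases m
  · exact dead_5 hn
  · exact dead_6 hn
  · exact dead_7 hn
  · exact dead_8 hn
  · exact dead_9 hn
  · exact dead_10 hn
  · exact dead_11 hn
  · exact dead_12 hn
  · exact dead_13 hn
  · exact dead_14 hn
  · exact dead_15 hn
  · exact dead_16 hn
  · exact dead_17 hn
  · exact dead_18 hn
  · exact dead_19 hn
  · exact dead_20 hn

end Cfsg.Agent.H138.HT
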