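import Cfsg.Agent.H138.HT.Alt
import Cfsg.Agent.H337.HT.NumP

/-!
# S3512, task PB9: alternating groups of degree `5 ≤ m ≤ 8`, `p ∣ |T|` (helper138)
-/

set_option autoImplicit false
set_option maxRecDepth 100000

universe u

namespace Cfsg.Agent.H138.HT

open Cfsg.Agent.H337.HT

theorem p5 : chkP 11 [2, 3, 5] 60 120 13 = true := by decide +kernel
theorem p6 : chkP 11 [2, 3, 5] 360 1440 13 = true := by decide +kernel
theorem p7 : chkP 11 [2, 3, 5, 7] 2520 5040 13 = true := by decide +kernel
theorem p8 : chkP 11 [2, 3, 5, 7] 20160 40320 13 = true := by decide +kernel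

theorem card_alt_of {n o : ℕ} (hn : 2 ≤ n) (h : n.factorial = 2 * o) : Nat.card ↥(alternatingGroup (Fin n)) = o := by
  have := card_alt n hn
  omega

theorem card_aut_six_dvd : Nat.card (MulAut (alternatingGroup (Fin 6))) ∣ 1440 := by
  have h1 : (720 : ℕ) ∣ Nat.card (MulAut (alternatingGroup (Fin 6))) := by
    have hinj : Function.Injective (MulAut.conjNormal : Equiv.Perm (Fin 6) →* MulAut ↥(alternatingGroup (Fin 6))) := by
      intro s t h
      have hs : ∀ x : alternatingGroup (Fin (4 + 2)), (s * x * s⁻¹ : Equiv.Perm (Fin (4 + 2))) = t * x * t⁻¹ := by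
        intro x
        have := DFunLike.congr_fun h x
        have h2 := congrArg Subtype.val this
        rwa [MulAut.conjNormal_apply, MulAut.conjNormal_apply] at h2
      exact Cfsg.Agent.StandardComponent.AltAut.conj_unique (m := 4) (by omega) hs
    have h2 : Nat.card (Equiv.Perm (Fin 6)) ∣ Nat.card (MulAut (alternatingGroup (Fin 6))) := Subgroup.card_dvd_of_injective _ hinj
    rwa [Nat.card_perm, Nat.card_fin] at h2
  have h2 := card_aut_six
  obtain ⟨k, hk⟩ := h1
  have h3 : k ≤ 2 := by omega
  have : Finite (MulAut (alternatingGroup (Fin 6))) :=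
    Finite.of_injective (fun σ => (σ : alternatingGroup (Fin 6) → alternatingGroup (Fin 6))) DFunLike.coe_injective
  have h4 : 0 < Nat.card (MulAut (alternatingGroup (Fin 6))) := Nat.card_pos
  rw [hk] at h4 ⊢
  interval_cases k
  · omega
  · decide
  · decide

theorem ne_11 {p : ℕ} {o : ℕ} (hd : p ∣ o) (ho : ¬ 11 ∣ o) : p ≠ 11 := by
  rintro rfl; exact ho hd

/-- **Task PB9.** -/
theorem deadP_alt {T : Type u} [Group T] {p n m : ℕ} (hn : 13 ≤ n) (hm : 5 ≤ m) (hm8 : m ≤ 8)
    (e : T ≃* alternatingGroup (Fin m)) (hp : p.Prime) (hd : p ∣ Nat.card T) : DeadP p n T := by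
  refine DeadP.congr e.symm ?_
  rw [Nat.card_congr e.toEquiv] at hd
  have hps4 : ∀ p ∈ (11 :: [2, 3, 5, 7] : List ℕ), p.Prime := by
    intro p hp
    simp only [List.mem_cons, List.not_mem_nil, or_false] at hp
    rcases hp with rfl | rfl | rfl | rfl | rfl <;> norm_num
  have hps3 : ∀ p ∈ (11 :: [2, 3, 5] : List ℕ), p.Prime := by
    intro p hp
    simp only [List.mem_cons, List.not_mem_nil, or_false] at hp
    rcases hp with rfl | rfl | rfl | rfl <;> norm_num
  interval_cases m
  · have ho := card_alt_of (n := 5) (o := 60) (by norm_num) (by decide)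
    exact deadP_sieve 11 [2, 3, 5] ho (by rw [card_aut_alt 5 (by norm_num) (by norm_num)]; decide) hps3 p5 hp hd
      (by rw [ho] at hd; exact ne_11 hd (by decide)) hn
  · have ho := card_alt_of (n := 6) (o := 360) (by norm_num) (by decide)
    exact deadP_sieve 11 [2, 3, 5] ho card_aut_six_dvd hps3 p6 hp hd
      (by rw [ho] at hd; exact ne_11 hd (by decide)) hn
  · have ho := card_alt_of (n := 7) (o := 2520) (by norm_num) (by decide)
    exact deadP_sieve 11 [2, 3, 5, 7] ho (by rw [card_aut_alt 7 (by norm_num) (by norm_num)]; decide) hps4 p7 hp hd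
      (by rw [ho] at hd; exact ne_11 hd (by decide)) hn
  · have ho := card_alt_of (n := 8) (o := 20160) (by norm_num) (by decide)
    exact deadP_sieve 11 [2, 3, 5, 7] ho (by rw [card_aut_alt 8 (by norm_num) (by norm_num)]; decide) hps4 p8 hp hd
      (by rw [ho] at hd; exact ne_11 hd (by decide)) hn

end Cfsg.Agent.H138.HT
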