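import Cfsg.Agent.Omega.NO1.Comp.Tens

/-!
# Commuting families of linear maps: dimension and the number of pure tensors (S3540, section 4)

`Fam S`: `S 0, …, S (k-1)` are pairwise commuting sets of `K`-linear maps of `V`, jointly irreducible, and only
scalars commute with all of them.  If all irreducible `S i`-submodules have dimension `w i`, then
`dim V = ∏ w i` and the set of the nonzero vectors that lie in an irreducible `S i`-submodule for every `i` has
`(q - 1) ∏ (q ^ w i - 1) / (q - 1)` elements (`Fam.count`).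
-/

set_option autoImplicit false

universe u

namespace Cfsg.Agent.H138.HT

open Cfsg.Agent.Omega.NO1.Comp Module TensorProduct

section Basic

variable {K V : Type u} [Field K] [AddCommGroup V] [Module K V]

/-- invariant submodule -/
def Inv (S : Set (Module.End K V)) (M : Submodule K V) : Prop := ∀ a ∈ S, ∀ v ∈ M, a v ∈ M

/-- irreducible submodule -/
def IrrS (S : Set (Module.End K V)) (M : Submodule K V) : Prop :=
  M ≠ ⊥ ∧ Inv S M ∧ ∀ N : Submodule K V, N ≤ M → Inv S N → N = ⊥ ∨ N = M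

variable {W W' : Type u} [AddCommGroup W] [Module K W] [AddCommGroup W'] [Module K W']
variable {L C : Set (Module.End K V)}

/-- `w ↦ φ (w ⊗ w')` -/
noncomputable def cmap (D : Dec L C W W') (w' : W') : W →ₗ[K] V :=
  (D.φ : W ⊗[K] W' →ₗ[K] V) ∘ₗ ((TensorProduct.mk K W W').flip w')

/-- `w' ↦ φ (w ⊗ w')` -/
noncomputable def rmap (D : Dec L C W W') (w : W) : W' →ₗ[K] V :=
  (D.φ : W ⊗[K] W' →ₗ[K] V) ∘ₗ (TensorProduct.mk K W W' w)

@[simp] theorem cmap_apply (D : Dec L C W W') (w' : W') (w : W) : cmap D w' w = D.φ (w ⊗ₜ w') := rfl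

@[simp] theorem rmap_apply (D : Dec L C W W') (w' : W') (w : W) : rmap D w w' = D.φ (w ⊗ₜ w') := rfl

theorem cmap_inj (D : Dec L C W W') {w' : W'} (hw' : w' ≠ 0) : Function.Injective (cmap D w') :=
  fun _ _ h => D.inj_left hw' h

theorem rmap_inj (D : Dec L C W W') {w : W} (hw : w ≠ 0) : Function.Injective (rmap D w) :=
  fun _ _ h => D.inj_right hw h

theorem inv_inf {S : Set (Module.End K V)} {M N : Submodule K V} (hM : Inv S M) (hN : Inv S N) : Inv S (M ⊓ N) :=
  fun a ha v hv => ⟨hM a ha v hv.1, hN a ha v hv.2⟩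

/-- the image of `W` under `w ↦ φ (w ⊗ w')` is irreducible -/
theorem range_cmap_irr (h : Two L C) (D : Dec L C W W') {w' : W'} (hw' : w' ≠ 0) :
    IrrS L (LinearMap.range (cmap D w')) := by
  have hinv : Inv L (LinearMap.range (cmap D w')) := by
    rintro a ha _ ⟨w, rfl⟩
    exact ⟨D.ρ a w, by rw [cmap_apply, cmap_apply, D.hl a ha]⟩
  refine ⟨?_, hinv, ?_⟩
  · intro h0
    obtain ⟨w, hw⟩ := @exists_ne W D.neL 0
    have h1 : cmap D w' w ∈ LinearMap.range (cmap D w') := ⟨w, rfl⟩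
    rw [h0, Submodule.mem_bot, cmap_apply] at h1
    exact D.ne_zero hw hw' h1
  · intro N hN hNi
    rcases D.irr h (N.comap (cmap D w')) (fun l hl w hw => by
      change cmap D w' (D.ρ l w) ∈ N
      rw [cmap_apply, ← D.hl l hl]
      exact hNi l hl _ hw) with h1 | h1
    · left
      rw [← Submodule.map_comap_eq_of_le hN, h1, Submodule.map_bot]
    · right
      rw [← Submodule.map_comap_eq_of_le hN, h1, Submodule.map_top]

theorem eq_of_le {S : Set (Module.End K V)} {M N : Submodule K V} (hM : IrrS S M) (hN : IrrS S N) {v : V}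
    (hv : v ≠ 0) (h1 : v ∈ M) (h2 : v ∈ N) : M = N := by
  have h3 : M ⊓ N ≠ ⊥ := by
    intro h
    have : v ∈ M ⊓ N := ⟨h1, h2⟩
    rw [h, Submodule.mem_bot] at this
    exact hv this
  have h4 := (hM.2.2 _ inf_le_left (inv_inf hM.2.1 hN.2.1)).resolve_left h3
  have h5 := (hN.2.2 _ inf_le_right (inv_inf hM.2.1 hN.2.1)).resolve_left h3
  exact h4.symm.trans h5

/-- a nonzero vector of an irreducible submodule is a pure tensor -/
theorem pure_of_irr (h : Two L C) (D : Dec L C W W') {M : Submodule K V} (hM : IrrS L M) :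
    ∃ w' : W', w' ≠ 0 ∧ M = LinearMap.range (cmap D w') := by
  classical
  have := D.finL
  have : Module.Finite K W := Module.Finite.of_finite
  obtain ⟨v, hvM, hv⟩ := Submodule.exists_mem_ne_zero_of_ne_bot hM.1
  let b := Module.finBasis K W
  obtain ⟨x, rfl⟩ := D.φ.surjective v
  obtain ⟨c, rfl⟩ := TensorProduct.eq_repr_basis_left b x
  have hc : c ≠ 0 := by
    rintro rfl
    exact hv (by rw [Finsupp.sum_zero_index, map_zero])
  obtain ⟨i, hi⟩ := Finsupp.ne_iff.1 hc
  rw [Finsupp.zero_apply] at hi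
  obtain ⟨a, ha, ha'⟩ := D.den h (b.constr K fun j => if j = i then b i else 0)
  have h2 : a (D.φ (c.sum fun j n => b j ⊗ₜ n)) = D.φ (b i ⊗ₜ c i) := by
    rw [Finsupp.sum, map_sum, map_sum]
    have h3 : ∀ j ∈ c.support, a (D.φ (b j ⊗ₜ c j)) = if j = i then D.φ (b i ⊗ₜ c i) else 0 := by
      intro j _
      rw [ha', Basis.constr_basis]
      by_cases hj : j = i
      · subst hj; rw [if_pos rfl, if_pos rfl]
      · simp only [if_neg hj, TensorProduct.zero_tmul, map_zero]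
    rw [Finset.sum_congr rfl h3, Finset.sum_ite_eq' c.support i, if_pos (Finsupp.mem_support_iff.2 hi)]
  have h4 : D.φ (b i ⊗ₜ c i) ∈ M := by
    rw [← h2]
    exact adjoin_inv hM.2.1 a ha _ hvM
  have h5 : D.φ (b i ⊗ₜ c i) ≠ 0 := D.ne_zero (b.ne_zero i) hi
  exact ⟨c i, hi, eq_of_le hM (range_cmap_irr h D hi) h5 h4 ⟨b i, rfl⟩⟩

theorem finrank_irr (h : Two L C) (D : Dec L C W W') {M : Submodule K V} (hM : IrrS L M) :
    Module.finrank K M = Module.finrank K W := by
  obtain ⟨w', hw', rfl⟩ := pure_of_irr h D hM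
  exact LinearMap.finrank_range_of_inj (cmap_inj D hw')

theorem bot_of_map {X Y : Type*} [AddCommGroup X] [Module K X] [AddCommGroup Y] [Module K Y] {f : X →ₗ[K] Y}
    (hf : Function.Injective f) {N : Submodule K X} (h : N.map f = ⊥) : N = ⊥ :=
  Submodule.map_injective_of_injective hf (by rw [h, Submodule.map_bot])

/-- irreducible submodules for a subset of `C` inside `w ⊗ W'` -/
theorem irr_map (D : Dec L C W W') {S : Set (Module.End K V)} (hS : S ⊆ C) {w : W} (hw : w ≠ 0)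
    {N : Submodule K W'} (hN : IrrS (D.ρ' '' S) N) : IrrS S (N.map (rmap D w)) := by
  refine ⟨?_, ?_, ?_⟩
  · intro h
    exact hN.1 (bot_of_map (rmap_inj D hw) h)
  · rintro a ha _ ⟨w', hw', rfl⟩
    refine ⟨D.ρ' a w', hN.2.1 _ ⟨a, ha, rfl⟩ w' hw', ?_⟩
    rw [rmap_apply, rmap_apply, D.hc a (hS ha)]
  · intro M' hM' hi
    have h1 : Inv (D.ρ' '' S) (M'.comap (rmap D w)) := by
      rintro _ ⟨a, ha, rfl⟩ w' hw'
      change rmap D w (D.ρ' a w') ∈ M'
      rw [rmap_apply, ← D.hc a (hS ha)]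
      exact hi a ha _ hw'
    have h2 : M'.comap (rmap D w) ≤ N := by
      have := Submodule.comap_mono (f := rmap D w) hM'
      rwa [Submodule.comap_map_eq_of_injective (rmap_inj D hw)] at this
    have h3 : M' ≤ LinearMap.range (rmap D w) := hM'.trans (LinearMap.map_le_range)
    rcases hN.2.2 _ h2 h1 with h4 | h4
    · left
      rw [← Submodule.map_comap_eq_of_le h3, h4, Submodule.map_bot]
    · right
      rw [← Submodule.map_comap_eq_of_le h3, h4]

theorem irr_comap (D : Dec L C W W') {S : Set (Module.End K V)} (hS : S ⊆ C) {w : W} (hw : w ≠ 0)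
    {w' : W'} (hw' : w' ≠ 0) {M : Submodule K V} (hM : IrrS S M) (hv : D.φ (w ⊗ₜ w') ∈ M) :
    IrrS (D.ρ' '' S) (M.comap (rmap D w)) := by
  refine ⟨?_, ?_, ?_⟩
  · intro h
    have : w' ∈ M.comap (rmap D w) := hv
    rw [h, Submodule.mem_bot] at this
    exact hw' this
  · rintro _ ⟨a, ha, rfl⟩ u hu
    change rmap D w (D.ρ' a u) ∈ M
    rw [rmap_apply, ← D.hc a (hS ha)]
    exact hM.2.1 a ha _ hu
  · intro N hN hi
    have h1 : Inv S (N.map (rmap D w)) := by
      rintro a ha _ ⟨u, hu, rfl⟩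
      refine ⟨D.ρ' a u, hi _ ⟨a, ha, rfl⟩ u hu, ?_⟩
      rw [rmap_apply, rmap_apply, D.hc a (hS ha)]
    have h2 : N.map (rmap D w) ≤ M := by
      rw [Submodule.map_le_iff_le_comap]
      exact hN
    rcases hM.2.2 _ h2 h1 with h3 | h3
    · exact Or.inl (bot_of_map (rmap_inj D hw) h3)
    · right
      rw [← h3, Submodule.comap_map_eq_of_injective (rmap_inj D hw)]

end Basic

section Pure

variable {K W W' : Type u} [Field K] [AddCommGroup W] [Module K W] [AddCommGroup W'] [Module K W']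

/-- equal nonzero pure tensors -/
theorem tmul_eq {w₁ w₂ : W} {u₁ u₂ : W'} (hw : w₁ ≠ 0) (hu : u₁ ≠ 0) (h : w₁ ⊗ₜ[K] u₁ = w₂ ⊗ₜ[K] u₂) :
    ∃ c : Kˣ, w₂ = c • w₁ ∧ u₂ = c⁻¹ • u₁ := by
  obtain ⟨f, hf⟩ := exists_dual (K := K) hw
  obtain ⟨g, hg⟩ := exists_dual (K := K) hu
  have h1 : g u₂ • w₂ = w₁ := by
    have := congrArg (TensorProduct.lift ((LinearMap.lsmul K W).flip.compl₂ g) : W ⊗[K] W' →ₗ[K] W) h
    simpa [hg] using this.symm
  have h2 : f w₂ • u₂ = u₁ := by
    have := congrArg (TensorProduct.lift ((LinearMap.lsmul K W').comp f) : W ⊗[K] W' →ₗ[K] W') h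
    simpa [hf] using this.symm
  have h3 : f w₂ * g u₂ = 1 := by
    have := congrArg f h1
    rw [map_smul, hf, smul_eq_mul] at this
    rw [mul_comm]; exact this
  refine ⟨⟨f w₂, g u₂, h3, by rw [mul_comm]; exact h3⟩, ?_, ?_⟩
  · rw [Units.smul_def]
    change w₂ = f w₂ • w₁
    rw [← h1, smul_smul, h3, one_smul]
  · change u₂ = g u₂ • u₁
    rw [← h2, smul_smul, mul_comm, h3, one_smul]

end Pure

/-- a map all of whose fibres have `c` elements -/
theorem card_of_fib {α β : Type*} [Finite α] [Finite β] (f : α → β) {c : ℕ} (h : ∀ b, Nat.card {a // f a = b} = c) :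
    Nat.card α = Nat.card β * c := by
  classical
  have := Fintype.ofFinite β
  rw [Nat.card_congr (Equiv.sigmaFiberEquiv f).symm, Nat.card_sigma, Finset.sum_congr rfl (fun b _ => h b),
    Finset.sum_const, smul_eq_mul, Finset.card_univ, Nat.card_eq_fintype_card]

section Family

variable {K : Type u} [Field K] {V : Type u} [AddCommGroup V] [Module K V]

/-- a commuting family, jointly absolutely irreducible -/
structure Fam {k : ℕ} (S : Fin k → Set (Module.End K V)) : Prop where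
  comm : ∀ i j, i ≠ j → ∀ a ∈ S i, ∀ b ∈ S j, a * b = b * a
  irr : ∀ U : Submodule K V, (∀ i, Inv (S i) U) → U = ⊥ ∨ U = ⊤
  sch : ∀ f : Module.End K V, (∀ i, ∀ a ∈ S i, f * a = a * f) → ∃ c : K, ∀ v, f v = c • v

/-- the vectors that are pure with respect to every member of the family -/
def Pu {k : ℕ} (S : Fin k → Set (Module.End K V)) : Set V := {v | v ≠ 0 ∧ ∀ i, ∃ M, IrrS (S i) M ∧ v ∈ M}

theorem Pu.smul {k : ℕ} {S : Fin k → Set (Module.End K V)} {v : V} (hv : v ∈ Pu S) (c : Kˣ) : c • v ∈ Pu S := by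
  refine ⟨?_, fun i => ?_⟩
  · rw [Units.smul_def]
    exact smul_ne_zero c.ne_zero hv.1
  · obtain ⟨M, hM, h⟩ := hv.2 i
    exact ⟨M, hM, M.smul_mem (c : K) h⟩

variable {k : ℕ} {S : Fin (k + 1) → Set (Module.End K V)}

theorem Fam.two (F : Fam S) : Two (S 0) (⋃ i : Fin k, S i.succ) where
  comm l hl c hc := by
    obtain ⟨i, hi⟩ := Set.mem_iUnion.1 hc
    exact F.comm 0 i.succ (Fin.succ_ne_zero i).symm l hl c hi
  irr U h0 h1 := F.irr U (fun i => by
    refine Fin.cases ?_ (fun j => ?_) i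
    · exact h0
    · exact fun a ha v hv => h1 a (Set.mem_iUnion.2 ⟨j, ha⟩) v hv)
  sch f h0 h1 := F.sch f (fun i => by
    refine Fin.cases ?_ (fun j => ?_) i
    · exact h0
    · exact fun a ha => h1 a (Set.mem_iUnion.2 ⟨j, ha⟩))

variable {W W' : Type u} [AddCommGroup W] [Module K W] [AddCommGroup W'] [Module K W']

theorem Fam.tail (F : Fam S) (D : Dec (S 0) (⋃ i : Fin k, S i.succ) W W') :
    Fam (fun i : Fin k => D.ρ' '' S i.succ) where
  comm := by
    rintro i j hij _ ⟨a, ha, rfl⟩ _ ⟨b, hb, rfl⟩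
    obtain ⟨w, hw⟩ := @exists_ne W D.neL 0
    ext w'
    apply D.inj_right hw
    have ha' := Set.mem_iUnion.2 (⟨i, ha⟩ : ∃ i : Fin k, a ∈ S i.succ)
    have hb' := Set.mem_iUnion.2 (⟨j, hb⟩ : ∃ i : Fin k, b ∈ S i.succ)
    rw [Module.End.mul_apply, Module.End.mul_apply, ← D.hc a ha', ← D.hc b hb', ← D.hc b hb', ← D.hc a ha']
    exact LinearMap.congr_fun (F.comm i.succ j.succ (fun h => hij (Fin.succ_injective _ h)) a ha b hb) _
  irr U h := D.symm.irr F.two.symm U (fun l hl w hw => by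
    obtain ⟨i, hi⟩ := Set.mem_iUnion.1 hl
    exact h i _ ⟨l, hi, rfl⟩ w hw)
  sch f h := D.symm.sch F.two.symm f (fun l hl => by
    obtain ⟨i, hi⟩ := Set.mem_iUnion.1 hl
    exact h i _ ⟨l, hi, rfl⟩)

theorem mem_Pu (F : Fam S) (D : Dec (S 0) (⋃ i : Fin k, S i.succ) W W') {w : W} {w' : W'} (hw : w ≠ 0)
    (hw' : w' ∈ Pu (fun i : Fin k => D.ρ' '' S i.succ)) : D.φ (w ⊗ₜ w') ∈ Pu S := by
  refine ⟨D.ne_zero hw hw'.1, fun i => ?_⟩
  refine Fin.cases ?_ (fun j => ?_) i
  · exact ⟨_, range_cmap_irr F.two D hw'.1, ⟨w, rfl⟩⟩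
  · obtain ⟨N, hN, h⟩ := hw'.2 j
    exact ⟨_, irr_map D (fun a ha => Set.mem_iUnion.2 ⟨j, ha⟩) hw hN, ⟨w', h, rfl⟩⟩

theorem exists_of_mem_Pu (F : Fam S) (D : Dec (S 0) (⋃ i : Fin k, S i.succ) W W') {v : V} (hv : v ∈ Pu S) :
    ∃ (w : W) (w' : W'), w ≠ 0 ∧ w' ∈ Pu (fun i : Fin k => D.ρ' '' S i.succ) ∧ D.φ (w ⊗ₜ w') = v := by
  obtain ⟨M, hM, hvM⟩ := hv.2 0
  obtain ⟨w', hw', rfl⟩ := pure_of_irr F.two D hM
  obtain ⟨w, rfl⟩ := hvM
  rw [cmap_apply] at hv
  have hw : w ≠ 0 := by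
    rintro rfl
    exact hv.1 (by rw [TensorProduct.zero_tmul, map_zero])
  refine ⟨w, w', hw, ⟨hw', fun j => ?_⟩, rfl⟩
  obtain ⟨M, hM, hvM⟩ := hv.2 j.succ
  exact ⟨_, irr_comap D (fun a ha => Set.mem_iUnion.2 ⟨j, ha⟩) hw hw' hM hvM, hvM⟩

/-- the number of pairs over one pure tensor -/
theorem card_Pu_succ [Finite K] [Finite V] (F : Fam S) (D : Dec (S 0) (⋃ i : Fin k, S i.succ) W W') :
    Nat.card (Pu S) * (Nat.card K - 1) =
      (Nat.card W - 1) * Nat.card (Pu (fun i : Fin k => D.ρ' '' S i.succ)) := by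
  classical
  have := D.finL
  have := D.finR
  let f : {w : W // w ≠ 0} × Pu (fun i : Fin k => D.ρ' '' S i.succ) → Pu S := fun x =>
    ⟨D.φ (x.1.1 ⊗ₜ x.2.1), mem_Pu F D x.1.2 x.2.2⟩
  have hf : ∀ b, Nat.card {a // f a = b} = Nat.card K - 1 := by
    rintro ⟨v, hv⟩
    obtain ⟨w, w', hw, hw', rfl⟩ := exists_of_mem_Pu F D hv
    rw [← Nat.card_units]
    refine (Nat.card_congr (Equiv.ofBijective (fun c : Kˣ =>
      (⟨(⟨c • w, ?_⟩, ⟨c⁻¹ • w', Pu.smul hw' _⟩), ?_⟩ : {a // f a = ⟨D.φ (w ⊗ₜ w'), hv⟩})) ⟨?_, ?_⟩)).symm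
    · rw [Units.smul_def]
      exact smul_ne_zero c.ne_zero hw
    · apply Subtype.ext
      change D.φ ((c • w) ⊗ₜ (c⁻¹ • w')) = D.φ (w ⊗ₜ w')
      rw [Units.smul_def, Units.smul_def, TensorProduct.smul_tmul, smul_smul, Units.mul_inv, one_smul]
    · intro c d h
      have h1 : (c • w : W) = d • w := congrArg (fun x : {a // f a = ⟨D.φ (w ⊗ₜ w'), hv⟩} => x.1.1.1) h
      rw [Units.smul_def, Units.smul_def, ← sub_eq_zero, ← sub_smul, smul_eq_zero] at h1
      exact Units.ext (sub_eq_zero.1 (h1.resolve_right hw))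
    · rintro ⟨⟨⟨w₂, h2⟩, ⟨u₂, h3⟩⟩, h4⟩
      have h5 : D.φ (w₂ ⊗ₜ u₂) = D.φ (w ⊗ₜ w') := congrArg Subtype.val h4
      obtain ⟨c, hc, hc'⟩ := tmul_eq hw hw'.1 (D.φ.injective h5).symm
      refine ⟨c, Subtype.ext ?_⟩
      exact Prod.ext (Subtype.ext hc.symm) (Subtype.ext hc'.symm)
  have h1 := card_of_fib f hf
  rw [Nat.card_prod] at h1
  have h2 : Nat.card {w : W // w ≠ 0} = Nat.card W - 1 := by
    have := Fintype.ofFinite W
    rw [Nat.card_eq_fintype_card, Nat.card_eq_fintype_card, Fintype.card_subtype_compl, Fintype.card_subtype_eq]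
  rw [← h1, h2]

end Family

/-- **dimension and number of pure vectors** -/
theorem Fam.count {K : Type u} [Field K] [Finite K] : ∀ (k : ℕ) {V : Type u} [AddCommGroup V] [Module K V] [Finite V]
    [Nontrivial V] {S : Fin k → Set (Module.End K V)} (_ : Fam S) (w : Fin k → ℕ)
    (_ : ∀ i M, IrrS (S i) M → Module.finrank K M = w i), Module.finrank K V = ∏ i, w i ∧
      Nat.card (Pu S) * (Nat.card K - 1) ^ k = (Nat.card K - 1) * ∏ i, (Nat.card K ^ w i - 1)
  | 0, V, _, _, _, _, S, F, w, hw => by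
    classical
    obtain ⟨v, hv⟩ := exists_ne (0 : V)
    have h1 : K ∙ v = ⊤ := by
      refine (F.irr (K ∙ v) (fun i => i.elim0)).resolve_left ?_
      rw [Submodule.span_singleton_eq_bot]
      exact hv
    have h2 : Module.finrank K V = 1 := by
      rw [← finrank_top, ← h1, finrank_span_singleton hv]
    refine ⟨by rw [h2]; simp, ?_⟩
    have h3 : Pu S = {v | v ≠ 0} := by
      ext v
      exact ⟨fun h => h.1, fun h => ⟨h, fun i => i.elim0⟩⟩
    have h4 : Nat.card V = Nat.card K := by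
      rw [Module.natCard_eq_pow_finrank (K := K), h2, pow_one]
    have h5 : Nat.card {v : V | v ≠ 0} = Nat.card V - 1 := by
      have := Fintype.ofFinite V
      have : Nat.card {v : V // v ≠ 0} = Nat.card V - 1 := by
        rw [Nat.card_eq_fintype_card, Nat.card_eq_fintype_card, Fintype.card_subtype_compl, Fintype.card_subtype_eq]
      exact this
    rw [h3, h5, h4]
    simp
  | k + 1, V, _, _, _, _, S, F, w, hw => by
    classical
    obtain ⟨W, W', _, _, _, _, ⟨D⟩⟩ := exists_dec F.two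
    have := D.finL
    have := D.finR
    have := D.neL
    have := D.neR
    have : Module.Finite K W := Module.Finite.of_finite
    have : Module.Finite K W' := Module.Finite.of_finite
    obtain ⟨w₀, hw₀⟩ := exists_ne (0 : W)
    obtain ⟨w₁, hw₁⟩ := exists_ne (0 : W')
    have hW : Module.finrank K W = w 0 := by
      rw [← hw 0 _ (range_cmap_irr F.two D hw₁)]
      exact (finrank_irr F.two D (range_cmap_irr F.two D hw₁)).symm
    obtain ⟨h1, h2⟩ := Fam.count k (V := W') (F.tail D) (fun i => w i.succ) (by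
      intro i M hM
      rw [← hw i.succ _ (irr_map D (fun a ha => Set.mem_iUnion.2 ⟨i, ha⟩) hw₀ hM)]
      exact (LinearEquiv.finrank_eq (Submodule.equivMapOfInjective _ (rmap_inj D hw₀) M)))
    constructor
    · rw [← D.φ.finrank_eq, Module.finrank_tensorProduct, hW, h1, Fin.prod_univ_succ]
    · have h3 := card_Pu_succ F D
      rw [pow_succ, mul_comm _ (Nat.card K - 1), ← mul_assoc, h3, mul_assoc, h2, Fin.prod_univ_succ,
        Module.natCard_eq_pow_finrank (K := K) (V := W), hW]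
      ring

end Cfsg.Agent.H138.HT
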