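import Mathlib.Tactic

/-!
# S3540, section 4: the numerical conditions of the pure tensors
-/

set_option autoImplicit false

namespace Cfsg.Agent.H138.HT

theorem two_pow_gt : ∀ k : ℕ, 5 ≤ k → 2 * k < 2 ^ (k - 1) := by
  intro k hk
  obtain ⟨j, rfl⟩ : ∃ j, k = j + 5 := ⟨k - 5, by omega⟩
  induction j with
  | zero => norm_num
  | succ j ih =>
    have h1 := ih (by omega)
    have h2 : j + 1 + 5 - 1 = (j + 5 - 1) + 1 := by omega
    rw [h2, pow_succ]
    omega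

theorem small_kw {k w : ℕ} (hk : 2 ≤ k) (hw : 2 ≤ w) (h : w ^ k ≤ 2 * k * w) :
    (k = 2 ∧ w ≤ 4) ∨ (k = 3 ∧ w = 2) ∨ (k = 4 ∧ w = 2) := by
  have h1 : w ^ (k - 1) ≤ 2 * k := by
    have h2 : w ^ k = w ^ (k - 1) * w := by rw [← pow_succ]; congr 1; omega
    rw [h2] at h
    exact Nat.le_of_mul_le_mul_right h (by omega)
  have h5 : k < 5 := by
    by_contra hc
    have h2 := two_pow_gt k (by omega)
    have h3 : 2 ^ (k - 1) ≤ w ^ (k - 1) := Nat.pow_le_pow_left hw _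
    omega
  interval_cases k
  · left
    refine ⟨rfl, ?_⟩
    norm_num at h1
    exact h1
  · right; left
    refine ⟨rfl, ?_⟩
    norm_num at h1
    nlinarith
  · right; right
    refine ⟨rfl, ?_⟩
    norm_num at h1
    by_contra hc
    have h3 : 3 ≤ w := by omega
    have h4 : 3 ^ 3 ≤ w ^ 3 := Nat.pow_le_pow_left h3 _
    omega

/-- divisor of both -/
theorem le_gcd {m a b : ℕ} (h1 : m ∣ a) (h2 : m ∣ b) (ha : 0 < a) : m ≤ Nat.gcd a b :=
  Nat.le_of_dvd (Nat.gcd_pos_of_pos_left _ ha) (Nat.dvd_gcd h1 h2)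

theorem num_pure {q k w m P : ℕ} (hq : 2 ≤ q) (hk : 2 ≤ k) (hw : 2 ≤ w)
    (hP : P * (q - 1) ^ k = (q - 1) * (q ^ w - 1) ^ k) (h1 : m ∣ P) (h2 : m ∣ q ^ (w ^ k) - 1)
    (h3 : q ^ (w ^ k) ≤ 2 * m ^ 2) : k = 2 ∧ w = 2 ∧ m ∣ 2 * (q ^ 2 - 1) := by
  obtain ⟨t, rfl⟩ : ∃ t, q = t + 1 := ⟨q - 1, by omega⟩
  have ht : 1 ≤ t := by omega
  rw [Nat.add_sub_cancel] at hP
  have hP1 : P * t ^ (k - 1) = ((t + 1) ^ w - 1) ^ k := by
    have h4 : t ^ k = t ^ (k - 1) * t := by rw [← pow_succ]; congr 1; omega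
    rw [h4] at hP
    have h5 : t * (P * t ^ (k - 1)) = t * ((t + 1) ^ w - 1) ^ k := by rw [← hP]; ring
    exact Nat.eq_of_mul_eq_mul_left (by omega) h5
  have hQ : 1 < (t + 1) ^ w := Nat.one_lt_pow (by omega) (by omega)
  have hPpos : 0 < P := by
    rcases Nat.eq_zero_or_pos P with h | h
    · rw [h, zero_mul] at hP1
      have : 0 < ((t + 1) ^ w - 1) ^ k := Nat.pow_pos (by omega)
      omega
    · exact h
  have hmP : m ≤ P := Nat.le_of_dvd hPpos h1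
  -- the size
  have hsize : (t + 1) ^ (w ^ k) * (t ^ (k - 1)) ^ 2 < 2 * ((t + 1) ^ w) ^ (2 * k) := by
    have h4 : (t + 1) ^ (w ^ k) * (t ^ (k - 1)) ^ 2 ≤ 2 * P ^ 2 * (t ^ (k - 1)) ^ 2 :=
      Nat.mul_le_mul_right _ (h3.trans (Nat.mul_le_mul_left _ (Nat.pow_le_pow_left hmP 2)))
    have h5 : 2 * P ^ 2 * (t ^ (k - 1)) ^ 2 = 2 * ((t + 1) ^ w - 1) ^ (2 * k) := by
      rw [mul_comm 2 k, pow_mul _ k 2, ← hP1]; ring
    have h6 : ((t + 1) ^ w - 1) ^ (2 * k) < ((t + 1) ^ w) ^ (2 * k) := Nat.pow_lt_pow_left (by omega) (by omega)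
    omega
  have hkw : w ^ k ≤ 2 * k * w := by
    by_contra hc
    have h4 : (t + 1) ^ (2 * k * w + 1) ≤ (t + 1) ^ (w ^ k) := Nat.pow_le_pow_right (by omega) (by omega)
    have h5 : 1 ≤ (t ^ (k - 1)) ^ 2 := Nat.pow_pos (Nat.pow_pos (by omega))
    have h6 : (t + 1) ^ (w ^ k) * 1 ≤ (t + 1) ^ (w ^ k) * (t ^ (k - 1)) ^ 2 := Nat.mul_le_mul_left _ h5
    have h7 : ((t + 1) ^ w) ^ (2 * k) = (t + 1) ^ (2 * k * w) := by rw [← pow_mul]; congr 1; ring
    rw [h7] at hsize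
    rw [pow_succ] at h4
    have h8 : 2 * (t + 1) ^ (2 * k * w) ≤ (t + 1) ^ (2 * k * w) * (t + 1) := by
      rw [mul_comm]; exact Nat.mul_le_mul_left _ (by omega)
    omega
  rcases small_kw hk hw hkw with ⟨rfl, hw4⟩ | ⟨rfl, rfl⟩ | ⟨rfl, rfl⟩
  · interval_cases w
    · -- k = 2, w = 2
      refine ⟨rfl, rfl, ?_⟩
      have e1 : (t + 1) ^ 2 - 1 = t * (t + 2) := by
        rw [Nat.sub_eq_iff_eq_add (by nlinarith)]; ring
      have e2 : (t + 1) ^ (2 ^ 2) - 1 = t * (t + 2) * ((t + 1) ^ 2 + 1) := by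
        have : (t + 1) ^ (2 ^ 2) = t * (t + 2) * ((t + 1) ^ 2 + 1) + 1 := by ring
        omega
      have hP2 : P = t * (t + 2) ^ 2 := by
        rw [e1] at hP1
        have h5 : t * P = t * (t * (t + 2) ^ 2) := by
          calc t * P = P * t ^ (2 - 1) := by norm_num; ring
            _ = _ := by rw [hP1]; ring
        exact Nat.eq_of_mul_eq_mul_left (by omega) h5
      rw [e1]
      rw [e2] at h2
      rw [hP2] at h1
      have h5 : m ∣ t * (t * (t + 2) ^ 2) := Dvd.dvd.mul_left h1 t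
      have h6 : 2 * (t * (t + 2)) + t * (t * (t + 2) ^ 2) = t * (t + 2) * ((t + 1) ^ 2 + 1) := by ring
      rw [← h6] at h2
      exact (Nat.dvd_add_left h5).1 h2
    · -- k = 2, w = 3
      exfalso
      have e1 : (t + 1) ^ 3 - 1 = t * (t ^ 2 + 3 * t + 3) := by
        have : (t + 1) ^ 3 = t * (t ^ 2 + 3 * t + 3) + 1 := by ring
        omega
      have hP2 : P = t * (t ^ 2 + 3 * t + 3) ^ 2 := by
        rw [e1] at hP1
        have h5 : t * P = t * (t * (t ^ 2 + 3 * t + 3) ^ 2) := by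
          calc t * P = P * t ^ (2 - 1) := by norm_num; ring
            _ = _ := by rw [hP1]; ring
        exact Nat.eq_of_mul_eq_mul_left (by omega) h5
      have e2 : (t + 1) ^ (3 ^ 2) - 1 = t * (t ^ 2 + 3 * t + 3) * ((t + 1) ^ 6 + (t + 1) ^ 3 + 1) := by
        have : (t + 1) ^ (3 ^ 2) = t * (t ^ 2 + 3 * t + 3) * ((t + 1) ^ 6 + (t + 1) ^ 3 + 1) + 1 := by ring
        omega
      have h7 : m ∣ 3 * (t * (t ^ 2 + 3 * t + 3)) := by
        rw [e2] at h2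
        rw [hP2] at h1
        have h5 : m ∣ (t * ((t + 1) ^ 3 + 2)) * (t * (t ^ 2 + 3 * t + 3) ^ 2) := Dvd.dvd.mul_left h1 _
        have h6 : 3 * (t * (t ^ 2 + 3 * t + 3)) + (t * ((t + 1) ^ 3 + 2)) * (t * (t ^ 2 + 3 * t + 3) ^ 2) =
            t * (t ^ 2 + 3 * t + 3) * ((t + 1) ^ 6 + (t + 1) ^ 3 + 1) := by ring
        rw [← h6] at h2
        exact (Nat.dvd_add_left h5).1 h2
      have h8 : m ≤ 3 * (t * (t ^ 2 + 3 * t + 3)) := Nat.le_of_dvd (by positivity) h7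
      have h9 : m < 3 * (t + 1) ^ 3 := by
        have : (t + 1) ^ 3 = t * (t ^ 2 + 3 * t + 3) + 1 := by ring
        omega
      have h10 : (t + 1) ^ (3 ^ 2) < 18 * (t + 1) ^ 6 := by
        calc (t + 1) ^ (3 ^ 2) ≤ 2 * m ^ 2 := h3
          _ < 2 * (3 * (t + 1) ^ 3) ^ 2 := by
            have := Nat.pow_lt_pow_left h9 (n := 2) (by norm_num)
            omega
          _ = 18 * (t + 1) ^ 6 := by ring
      have h11 : (t + 1) ^ 3 < 18 := by
        have h12 : (t + 1) ^ (3 ^ 2) = (t + 1) ^ 3 * (t + 1) ^ 6 := by ring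
        rw [h12] at h10
        exact Nat.lt_of_mul_lt_mul_right h10
      have h12 : t = 1 := by
        by_contra hc
        have : 3 ^ 3 ≤ (t + 1) ^ 3 := Nat.pow_le_pow_left (by omega) 3
        omega
      subst h12
      norm_num at hP2
      rw [hP2] at h1
      have h13 := le_gcd h1 h2 (by norm_num)
      have h14 : Nat.gcd 49 ((1 + 1) ^ 3 ^ 2 - 1) = 7 := by norm_num
      rw [h14] at h13
      have h15 : 2 * m ^ 2 ≤ 2 * 7 ^ 2 := Nat.mul_le_mul_left _ (Nat.pow_le_pow_left h13 2)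
      norm_num at h3 h15
      omega
    · -- k = 2, w = 4
      exfalso
      have h4 : t = 1 := by
        by_contra hc
        have h5 : 2 ≤ t := by omega
        have h6 : ((t + 1) ^ 4) ^ (2 * 2) = (t + 1) ^ (4 ^ 2) := by rw [← pow_mul]; norm_num
        rw [h6] at hsize
        have h7 : 2 * (t + 1) ^ (4 ^ 2) ≤ (t + 1) ^ (4 ^ 2) * (t ^ (2 - 1)) ^ 2 := by
          rw [mul_comm]
          refine Nat.mul_le_mul_left _ ?_
          norm_num
          nlinarith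
        omega
      subst h4
      norm_num at hP1
      rw [hP1] at h1
      have h13 := le_gcd h1 h2 (by norm_num)
      have h14 : Nat.gcd 225 ((1 + 1) ^ 4 ^ 2 - 1) = 15 := by norm_num
      rw [h14] at h13
      have h15 : 2 * m ^ 2 ≤ 2 * 15 ^ 2 := Nat.mul_le_mul_left _ (Nat.pow_le_pow_left h13 2)
      norm_num at h3 h15
      omega
  · -- k = 3, w = 2
    exfalso
    have e1 : (t + 1) ^ 2 - 1 = t * (t + 2) := by
      have : (t + 1) ^ 2 = t * (t + 2) + 1 := by ring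
      omega
    have hP2 : P = t * (t + 2) ^ 3 := by
      rw [e1] at hP1
      have h5 : t ^ 2 * P = t ^ 2 * (t * (t + 2) ^ 3) := by
        calc t ^ 2 * P = P * t ^ (3 - 1) := by norm_num; ring
          _ = _ := by rw [hP1]; ring
      exact Nat.eq_of_mul_eq_mul_left (by positivity) h5
    have h7 : m ∣ 16 * (t * (t + 2)) := by
      have e2 : (t + 1) ^ (2 ^ 3) - 1 = t * (t + 2) * (((t + 1) ^ 2 + 1) * ((t + 1) ^ 4 + 1)) := by
        have : (t + 1) ^ (2 ^ 3) = t * (t + 2) * (((t + 1) ^ 2 + 1) * ((t + 1) ^ 4 + 1)) + 1 := by ring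
        omega
      rw [e2] at h2
      rw [hP2] at h1
      have i1 : (m : ℤ) ∣ (t : ℤ) * (t + 2) ^ 3 := by exact_mod_cast h1
      have i2 : (m : ℤ) ∣ (t : ℤ) * (t + 2) * (((t + 1) ^ 2 + 1) * ((t + 1) ^ 4 + 1)) := by exact_mod_cast h2
      have i3 : (16 : ℤ) * (t * (t + 2)) =
          ((t : ℤ) * (t + 2) ^ 3) * (t * ((t + 1) ^ 4 + 2 * (t + 1) ^ 2 + 3)) ^ 2 -
          ((t : ℤ) * (t + 2) * (((t + 1) ^ 2 + 1) * ((t + 1) ^ 4 + 1))) *
            (((t + 1) ^ 2 + 1) * ((t + 1) ^ 4 + 1) - 8) := by ring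
      have i4 : (m : ℤ) ∣ (16 : ℤ) * (t * (t + 2)) := by
        rw [i3]
        exact dvd_sub (Dvd.dvd.mul_right i1 _) (Dvd.dvd.mul_right i2 _)
      exact_mod_cast i4
    have h8 : m ≤ 16 * (t * (t + 2)) := Nat.le_of_dvd (by positivity) h7
    have h9 : m < 16 * (t + 1) ^ 2 := by
      have : (t + 1) ^ 2 = t * (t + 2) + 1 := by ring
      omega
    have h10 : (t + 1) ^ (2 ^ 3) < 512 * (t + 1) ^ 4 := by
      calc (t + 1) ^ (2 ^ 3) ≤ 2 * m ^ 2 := h3
        _ < 2 * (16 * (t + 1) ^ 2) ^ 2 := by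
          have := Nat.pow_lt_pow_left h9 (n := 2) (by norm_num)
          omega
        _ = 512 * (t + 1) ^ 4 := by ring
    have h11 : (t + 1) ^ 4 < 512 := by
      have h12 : (t + 1) ^ (2 ^ 3) = (t + 1) ^ 4 * (t + 1) ^ 4 := by ring
      rw [h12] at h10
      exact Nat.lt_of_mul_lt_mul_right h10
    have h12 : t < 4 := by
      by_contra hc
      have : 5 ^ 4 ≤ (t + 1) ^ 4 := Nat.pow_le_pow_left (by omega) 4
      omega
    interval_cases t
    · norm_num at hP2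
      rw [hP2] at h1
      have h13 := le_gcd h1 h2 (by norm_num)
      have h14 : Nat.gcd 27 ((1 + 1) ^ 2 ^ 3 - 1) = 3 := by norm_num
      rw [h14] at h13
      have h15 : 2 * m ^ 2 ≤ 2 * 3 ^ 2 := Nat.mul_le_mul_left _ (Nat.pow_le_pow_left h13 2)
      norm_num at h3 h15
      omega
    · norm_num at hP2
      rw [hP2] at h1
      have h13 := le_gcd h1 h2 (by norm_num)
      have h14 : Nat.gcd 128 ((2 + 1) ^ 2 ^ 3 - 1) = 32 := by norm_num
      rw [h14] at h13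
      have h15 : 2 * m ^ 2 ≤ 2 * 32 ^ 2 := Nat.mul_le_mul_left _ (Nat.pow_le_pow_left h13 2)
      norm_num at h3 h15
      omega
    · norm_num at hP2
      rw [hP2] at h1
      have h13 := le_gcd h1 h2 (by norm_num)
      have h14 : Nat.gcd 375 ((3 + 1) ^ 2 ^ 3 - 1) = 15 := by norm_num
      rw [h14] at h13
      have h15 : 2 * m ^ 2 ≤ 2 * 15 ^ 2 := Nat.mul_le_mul_left _ (Nat.pow_le_pow_left h13 2)
      norm_num at h3 h15
      omega
  · -- k = 4, w = 2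
    exfalso
    have e1 : (t + 1) ^ 2 - 1 = t * (t + 2) := by
      have : (t + 1) ^ 2 = t * (t + 2) + 1 := by ring
      omega
    have hP2 : P = t * (t + 2) ^ 4 := by
      rw [e1] at hP1
      have h5 : t ^ 3 * P = t ^ 3 * (t * (t + 2) ^ 4) := by
        calc t ^ 3 * P = P * t ^ (4 - 1) := by norm_num; ring
          _ = _ := by rw [hP1]; ring
      exact Nat.eq_of_mul_eq_mul_left (by positivity) h5
    have h4 : (t + 1) ^ (2 ^ 4) ≤ 2 * (t * (t + 2) ^ 4) ^ 2 := by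
      rw [← hP2]
      exact h3.trans (Nat.mul_le_mul_left _ (Nat.pow_le_pow_left hmP 2))
    -- `t (t + 2) ≤ (t + 1) ^ 2`, `2 (t + 2) ≤ 3 (t + 1)`
    have h5 : (t * (t + 2) ^ 4) ^ 2 ≤ ((t + 1) ^ 2) ^ 2 * ((t + 2) ^ 6) := by
      have : (t * (t + 2) ^ 4) ^ 2 = (t * (t + 2)) ^ 2 * (t + 2) ^ 6 := by ring
      rw [this]
      exact Nat.mul_le_mul_right _ (Nat.pow_le_pow_left (by nlinarith) 2)
    have h6 : 64 * (t + 2) ^ 6 ≤ 729 * (t + 1) ^ 6 := by
      have h7 : 64 * (t + 2) ^ 6 = (2 * (t + 2)) ^ 6 := by ring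
      have h8 : 729 * (t + 1) ^ 6 = (3 * (t + 1)) ^ 6 := by ring
      rw [h7, h8]
      exact Nat.pow_le_pow_left (by omega) 6
    have h7 : 64 * (t + 1) ^ 6 ≤ (t + 1) ^ 12 := by
      have h8 : (t + 1) ^ 12 = (t + 1) ^ 6 * (t + 1) ^ 6 := by ring
      rw [h8]
      refine Nat.mul_le_mul_right _ ?_
      calc 64 = 2 ^ 6 := by norm_num
        _ ≤ (t + 1) ^ 6 := Nat.pow_le_pow_left (by omega) 6
    have h8 : (t + 1) ^ (2 ^ 4) = (t + 1) ^ 4 * (t + 1) ^ 12 := by ring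
    have h9 : ((t + 1) ^ 2) ^ 2 = (t + 1) ^ 4 := by ring
    rw [h8] at h4
    rw [h9] at h5
    have h10 : (t + 1) ^ 4 * (t + 1) ^ 12 ≤ (t + 1) ^ 4 * (2 * (t + 2) ^ 6) := by
      calc _ ≤ _ := h4
        _ ≤ 2 * ((t + 1) ^ 4 * (t + 2) ^ 6) := Nat.mul_le_mul_left _ h5
        _ = _ := by ring
    have h11 := Nat.le_of_mul_le_mul_left h10 (by positivity)
    have h12 : 0 < (t + 1) ^ 6 := by positivity
    omega

end Cfsg.Agent.H138.HT
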