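import Cfsg.Agent.H138.HT.TT
import Cfsg.Agent.H138.HT.Fam
import Cfsg.Agent.H138.HT.NumTT

/-!
# S3540, section 4: at least two components, reduction to two components and dimension `2 × 2`
-/

set_option autoImplicit false
set_option linter.unusedSectionVars false

universe u

namespace Cfsg.Agent.H138.HT

open Cfsg.Agent.H828.HT Cfsg.Agent.Omega.NO1.Comp Module TensorProduct

/-- a quasisimple group is not abelian -/
theorem qs_nonab {X : Type*} [Group X] (h : Cfsg.IsQuasisimple X) (hc : ∀ x y : X, x * y = y * x) : False := by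
  obtain ⟨hp, hs⟩ := h
  have h1 : Subgroup.center X = ⊤ := by
    rw [eq_top_iff]
    intro x _
    rw [Subgroup.mem_center_iff]
    exact fun g => hc g x
  have h2 := hs.toNontrivial
  obtain ⟨a, b, hab⟩ := h2
  obtain ⟨x, rfl⟩ := QuotientGroup.mk_surjective a
  obtain ⟨y, rfl⟩ := QuotientGroup.mk_surjective b
  apply hab
  rw [QuotientGroup.eq, h1]
  trivial

section Perm

variable {X : Type*} [Group X] {G : Subgroup X} {k : ℕ} {L : Fin k → Subgroup X}

/-- the action on the components -/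
theorem perm_iff (hq : ∀ i, Cfsg.IsQuasisimple (L i))
    (hcomm : ∀ i j, i ≠ j → ∀ x ∈ L i, ∀ y ∈ L j, x * y = y * x)
    (hperm : ∀ g ∈ G, ∀ i, ∃ j, ∀ x ∈ L i, g * x * g⁻¹ ∈ L j) {g : X} (hg : g ∈ G) (i : Fin k) :
    ∃ j, ∀ x, x ∈ L i ↔ g * x * g⁻¹ ∈ L j := by
  obtain ⟨j, hj⟩ := hperm g hg i
  obtain ⟨i', hi'⟩ := hperm g⁻¹ (G.inv_mem hg) j
  have h1 : ∀ x ∈ L i, x ∈ L i' := by
    intro x hx
    have := hi' _ (hj x hx)
    have e : g⁻¹ * (g * x * g⁻¹) * g⁻¹⁻¹ = x := by group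
    rwa [e] at this
  have h2 : i = i' := by
    by_contra hne
    exact qs_nonab (hq i) (fun x y => Subtype.ext (hcomm i i' hne x x.2 y (h1 y y.2)))
  subst h2
  refine ⟨j, fun x => ⟨hj x, fun hx => ?_⟩⟩
  have := hi' _ hx
  have e : g⁻¹ * (g * x * g⁻¹) * g⁻¹⁻¹ = x := by group
  rwa [e] at this

theorem comp_ne (hq : ∀ i, Cfsg.IsQuasisimple (L i))
    (hcomm : ∀ i j, i ≠ j → ∀ x ∈ L i, ∀ y ∈ L j, x * y = y * x) {i j : Fin k} (h : ∀ x ∈ L i, x ∈ L j) : i = j := by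
  by_contra hne
  exact qs_nonab (hq i) (fun x y => Subtype.ext (hcomm i j hne x x.2 y (h y y.2)))

/-- conversely, if `g` maps `L i` into `L j`, it does so bijectively -/
theorem perm_iff_of (hq : ∀ i, Cfsg.IsQuasisimple (L i))
    (hcomm : ∀ i j, i ≠ j → ∀ x ∈ L i, ∀ y ∈ L j, x * y = y * x)
    (hperm : ∀ g ∈ G, ∀ i, ∃ j, ∀ x ∈ L i, g * x * g⁻¹ ∈ L j) {g : X} (hg : g ∈ G) {i j : Fin k}
    (h : ∀ x ∈ L i, g * x * g⁻¹ ∈ L j) : ∀ x, x ∈ L i ↔ g * x * g⁻¹ ∈ L j := by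
  obtain ⟨j', hj'⟩ := perm_iff hq hcomm hperm hg i
  obtain ⟨i', hi'⟩ := perm_iff hq hcomm hperm (G.inv_mem hg) j
  have h1 : i = i' := comp_ne hq hcomm (fun x hx => by
    have := (hi' _).1 (h x hx)
    have e : g⁻¹ * (g * x * g⁻¹) * g⁻¹⁻¹ = x := by group
    rwa [e] at this)
  subst h1
  intro x
  refine ⟨h x, fun hx => ?_⟩
  have := (hi' _).1 hx
  have e : g⁻¹ * (g * x * g⁻¹) * g⁻¹⁻¹ = x := by group
  rwa [e] at this

end Perm

section Semi

variable {p : ℕ} [Fact p.Prime] {K V : Type u} [Field K] [AddCommGroup V] [Module (ZMod p) V] [Module K V]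

/-- the image of a `K`-submodule under a `K`-semilinear map `g` -/
def gsub (g : V ≃ₗ[ZMod p] V) (h : ∃ σ : K ≃+* K, ∀ (c : K) (v : V), g⁻¹ (c • v) = σ c • g⁻¹ v)
    (M : Submodule K V) : Submodule K V where
  carrier := {v | g⁻¹ v ∈ M}
  add_mem' := by
    intro a b ha hb
    change g⁻¹ (a + b) ∈ M
    rw [map_add]
    exact M.add_mem ha hb
  zero_mem' := by
    change g⁻¹ 0 ∈ M
    rw [map_zero]
    exact M.zero_mem
  smul_mem' := by
    intro c v hv
    obtain ⟨σ, hσ⟩ := h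
    change g⁻¹ (c • v) ∈ M
    rw [hσ]
    exact M.smul_mem _ hv

theorem mem_gsub {g : V ≃ₗ[ZMod p] V} {h : ∃ σ : K ≃+* K, ∀ (c : K) (v : V), g⁻¹ (c • v) = σ c • g⁻¹ v}
    {M : Submodule K V} {v : V} : v ∈ gsub g h M ↔ g⁻¹ v ∈ M := Iff.rfl

theorem mul_app (a b : V ≃ₗ[ZMod p] V) (v : V) : (a * b) v = a (b v) := rfl

theorem inv_app_self (g : V ≃ₗ[ZMod p] V) (v : V) : g⁻¹ (g v) = v := by
  rw [← mul_app, inv_mul_cancel]; rfl

theorem app_inv_self (g : V ≃ₗ[ZMod p] V) (v : V) : g (g⁻¹ v) = v := by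
  rw [← mul_app, mul_inv_cancel]; rfl

theorem card_gsub {g : V ≃ₗ[ZMod p] V} {h : ∃ σ : K ≃+* K, ∀ (c : K) (v : V), g⁻¹ (c • v) = σ c • g⁻¹ v}
    {M : Submodule K V} : Nat.card (gsub g h M) = Nat.card M := by
  refine Nat.card_congr ⟨fun v => ⟨g⁻¹ v.1, v.2⟩, fun v => ⟨g v.1, ?_⟩, fun v => ?_, fun v => ?_⟩
  · rw [mem_gsub, inv_app_self]; exact v.2
  · exact Subtype.ext (app_inv_self g v.1)
  · exact Subtype.ext (inv_app_self g v.1)

/-- `linSet` and invariance -/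
theorem inv_iff {A : Subgroup (V ≃ₗ[ZMod p] V)} (hlin : ∀ a ∈ A, ∀ (c : K) (v : V), a (c • v) = c • a v)
    (M : Submodule K V) :
    Inv (linSet K V (A : Set (V ≃ₗ[ZMod p] V))) M ↔ ∀ a ∈ A, ∀ v ∈ M, a v ∈ M := by
  constructor
  · intro h a ha v hv
    exact h { toFun := fun v => a v, map_add' := map_add a, map_smul' := fun c v => hlin a ha c v }
      ⟨a, ha, fun v => rfl⟩ v hv
  · rintro h f ⟨a, ha, hf⟩ v hv
    rw [hf]
    exact h a ha v hv

theorem irr_gsub {A B : Subgroup (V ≃ₗ[ZMod p] V)} (hA : ∀ a ∈ A, ∀ (c : K) (v : V), a (c • v) = c • a v)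
    (hB : ∀ a ∈ B, ∀ (c : K) (v : V), a (c • v) = c • a v)
    {g : V ≃ₗ[ZMod p] V} (h : ∃ σ : K ≃+* K, ∀ (c : K) (v : V), g⁻¹ (c • v) = σ c • g⁻¹ v)
    (h' : ∃ σ : K ≃+* K, ∀ (c : K) (v : V), g⁻¹⁻¹ (c • v) = σ c • g⁻¹⁻¹ v)
    (hAB : ∀ x, x ∈ A ↔ g * x * g⁻¹ ∈ B) {M : Submodule K V}
    (hM : IrrS (linSet K V (A : Set (V ≃ₗ[ZMod p] V))) M) :
    IrrS (linSet K V (B : Set (V ≃ₗ[ZMod p] V))) (gsub g h M) := by
  have hBA : ∀ y ∈ B, g⁻¹ * y * g ∈ A := by
    intro y hy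
    rw [hAB]
    have e : g * (g⁻¹ * y * g) * g⁻¹ = y := by group
    rwa [e]
  refine ⟨?_, ?_, ?_⟩
  · obtain ⟨v, hv, hv0⟩ := Submodule.exists_mem_ne_zero_of_ne_bot hM.1
    intro hb
    have h1 : g v ∈ gsub g h M := by rw [mem_gsub, inv_app_self]; exact hv
    rw [hb, Submodule.mem_bot] at h1
    apply hv0
    have := congrArg (fun v => g⁻¹ v) h1
    simpa only [inv_app_self, map_zero] using this
  · rw [inv_iff hB]
    intro b hb v hv
    rw [mem_gsub] at hv ⊢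
    have h1 := (inv_iff hA M).1 hM.2.1 _ (hBA b hb) _ hv
    rwa [mul_app, mul_app, app_inv_self] at h1
  · intro N hN hi
    rw [inv_iff hB] at hi
    have h1 : Inv (linSet K V (A : Set (V ≃ₗ[ZMod p] V))) (gsub g⁻¹ h' N) := by
      rw [inv_iff hA]
      intro a ha v hv
      rw [mem_gsub, inv_inv] at hv ⊢
      have h2 := hi _ ((hAB a).1 ha) _ hv
      rwa [mul_app, mul_app, inv_app_self] at h2
    have h3 : gsub g⁻¹ h' N ≤ M := by
      intro v hv
      rw [mem_gsub, inv_inv] at hv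
      have := hN hv
      rwa [mem_gsub, inv_app_self] at this
    rcases hM.2.2 _ h3 h1 with h4 | h4
    · left
      rw [eq_bot_iff]
      intro v hv
      have h5 : g⁻¹ v ∈ gsub g⁻¹ h' N := by rw [mem_gsub, inv_inv, app_inv_self]; exact hv
      rw [h4, Submodule.mem_bot] at h5
      rw [Submodule.mem_bot, ← app_inv_self g v, h5, map_zero]
    · right
      refine le_antisymm hN ?_
      intro v hv
      rw [mem_gsub, ← h4, mem_gsub, inv_inv, app_inv_self] at hv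
      exact hv

end Semi

section Main

variable {p : ℕ} [Fact p.Prime] {V : Type u} [AddCommGroup V] [Module (ZMod p) V] [Finite V]
variable {G : Subgroup (V ≃ₗ[ZMod p] V)} {h : ℕ}

/-- the data of section 4 -/
structure Sec (K : Type u) [Field K] [Module K V] (G : Subgroup (V ≃ₗ[ZMod p] V)) {k : ℕ}
    (L : Fin k → Subgroup (V ≃ₗ[ZMod p] V)) : Prop where
  qs : ∀ i, Cfsg.IsQuasisimple (L i)
  comm : ∀ i j, i ≠ j → ∀ x ∈ L i, ∀ y ∈ L j, x * y = y * x
  perm : ∀ g ∈ G, ∀ i, ∃ j, ∀ x ∈ L i, g * x * g⁻¹ ∈ L j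
  trans : ∀ i j, ∃ g ∈ G, ∀ x ∈ L i, g * x * g⁻¹ ∈ L j
  lin : ∀ i, ∀ x ∈ L i, ∀ (c : K) (v : V), x (c • v) = c • x v
  irr : ∀ W : AddSubgroup V, (∀ i, ∀ x ∈ L i, ∀ w ∈ W, x w ∈ W) → W = ⊥ ∨ W = ⊤
  sch : ∀ f : V →+ V, (∀ i, ∀ x ∈ L i, ∀ v, f (x v) = x (f v)) → ∃ c : K, ∀ v, f v = c • v
  semi : ∀ g ∈ G, ∃ σ : K ≃+* K, ∀ (c : K) (v : V), g (c • v) = σ c • g v

variable {K : Type u} [Field K] [Module K V] {k : ℕ} {L : Fin k → Subgroup (V ≃ₗ[ZMod p] V)}

theorem Sec.fam (H : Sec K G L) : Fam (fun i => linSet K V (L i : Set (V ≃ₗ[ZMod p] V))) where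
  comm := by
    rintro i j hij f ⟨a, ha, hf⟩ g ⟨b, hb, hg⟩
    ext v
    rw [Module.End.mul_apply, Module.End.mul_apply, hf, hg, hg, hf]
    exact LinearEquiv.congr_fun (H.comm i j hij a ha b hb) v
  irr U hU := by
    rcases H.irr U.toAddSubgroup (fun i x hx w hw => (inv_iff (H.lin i) U).1 (hU i) x hx w hw) with h1 | h1
    · left
      ext w
      rw [← Submodule.mem_toAddSubgroup, h1]; rfl
    · right
      ext w
      rw [← Submodule.mem_toAddSubgroup, h1]
      exact ⟨fun _ => trivial, fun _ => trivial⟩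
  sch f hf := H.sch (f : V →+ V) (fun i x hx v => LinearMap.congr_fun (hf i
    { toFun := fun v => x v, map_add' := map_add x, map_smul' := fun c v => H.lin i x hx c v }
    ⟨x, hx, fun v => rfl⟩) v)

/-- the two-factor decomposition at an arbitrary index -/
theorem Fam.twoAt {S : Fin k → Set (Module.End K V)} (F : Fam S) (i : Fin k) :
    Two (S i) (⋃ j : {j : Fin k // j ≠ i}, S j) where
  comm l hl c hc := by
    obtain ⟨j, hj⟩ := Set.mem_iUnion.1 hc
    exact F.comm i j.1 j.2.symm l hl c hj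
  irr U h0 h1 := F.irr U (fun j => by
    by_cases hj : j = i
    · subst hj; exact h0
    · exact fun a ha v hv => h1 a (Set.mem_iUnion.2 ⟨⟨j, hj⟩, ha⟩) v hv)
  sch f h0 h1 := F.sch f (fun j => by
    by_cases hj : j = i
    · subst hj; exact h0
    · exact fun a ha => h1 a (Set.mem_iUnion.2 ⟨⟨j, hj⟩, ha⟩))

theorem Sec.semi' (H : Sec K G L) {g : V ≃ₗ[ZMod p] V} (hg : g ∈ G) :
    ∃ σ : K ≃+* K, ∀ (c : K) (v : V), g⁻¹ (c • v) = σ c • g⁻¹ v := H.semi _ (G.inv_mem hg)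

/-- all irreducible submodules of all components have the same dimension -/
theorem Sec.exists_w [Finite K] [Nontrivial V] (H : Sec K G L) (hk : 0 < k) : ∃ w : ℕ, 0 < w ∧
    (∀ i M, IrrS (linSet K V (L i : Set (V ≃ₗ[ZMod p] V))) M → Module.finrank K M = w) := by
  have F := H.fam
  have key : ∀ i, ∃ w : ℕ, 0 < w ∧ (∃ M, IrrS (linSet K V (L i : Set (V ≃ₗ[ZMod p] V))) M) ∧
      ∀ M, IrrS (linSet K V (L i : Set (V ≃ₗ[ZMod p] V))) M → Module.finrank K M = w := by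
    intro i
    obtain ⟨W, W', _, _, _, _, ⟨D⟩⟩ := exists_dec (F.twoAt i)
    have := D.finL
    have := D.neL
    have := D.neR
    have : Module.Finite K W := Module.Finite.of_finite
    obtain ⟨w₁, hw₁⟩ := exists_ne (0 : W')
    exact ⟨Module.finrank K W, Module.finrank_pos, ⟨_, range_cmap_irr (F.twoAt i) D hw₁⟩,
      fun M hM => finrank_irr (F.twoAt i) D hM⟩
  choose w hw0 hwM hw using key
  have hfin : Module.Finite K V := Module.Finite.of_finite
  have hall : ∀ i j, w i = w j := by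
    intro i j
    obtain ⟨g, hg, hgij⟩ := H.trans i j
    obtain ⟨M, hM⟩ := hwM i
    have h1 := irr_gsub (H.lin i) (H.lin j) (H.semi' hg) (by rw [inv_inv]; exact H.semi g hg)
      (perm_iff_of H.qs H.comm H.perm hg hgij) hM
    have h2 : Nat.card (gsub g (H.semi' hg) M) = Nat.card M := card_gsub
    rw [Module.natCard_eq_pow_finrank (K := K), Module.natCard_eq_pow_finrank (K := K) (V := M), hw j _ h1,
      hw i _ hM] at h2
    exact (Nat.pow_right_injective Finite.one_lt_card h2).symm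
  exact ⟨w ⟨0, hk⟩, hw0 _, fun i M hM => (hw i M hM).trans (hall _ _)⟩

theorem Sec.pu_inv (H : Sec K G L) {g : V ≃ₗ[ZMod p] V} (hg : g ∈ G) {v : V}
    (hv : v ∈ Pu (fun i => linSet K V (L i : Set (V ≃ₗ[ZMod p] V)))) :
    g v ∈ Pu (fun i => linSet K V (L i : Set (V ≃ₗ[ZMod p] V))) := by
  refine ⟨?_, fun j => ?_⟩
  · intro h0
    apply hv.1
    have := congrArg (fun v => g⁻¹ v) h0
    simpa only [inv_app_self, map_zero] using this
  · obtain ⟨i, hi⟩ := perm_iff H.qs H.comm H.perm (G.inv_mem hg) j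
    have hij : ∀ x, x ∈ L i ↔ g * x * g⁻¹ ∈ L j := by
      intro x
      rw [hi]
      have e : g⁻¹ * (g * x * g⁻¹) * g⁻¹⁻¹ = x := by group
      rw [e]
    obtain ⟨M, hM, hvM⟩ := hv.2 i
    exact ⟨_, irr_gsub (H.lin i) (H.lin j) (H.semi' hg) (by rw [inv_inv]; exact H.semi g hg) hij hM,
      by rw [mem_gsub, inv_app_self]; exact hvM⟩

/-- irreducible submodules are not one-dimensional -/
theorem Sec.two_le [Finite K] [Nontrivial V] (H : Sec K G L) (i : Fin k) {W W' : Type u} [AddCommGroup W] [Module K W]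
    [AddCommGroup W'] [Module K W'] {C : Set (Module.End K V)}
    (D : Dec (linSet K V (L i : Set (V ≃ₗ[ZMod p] V))) C W W') : 2 ≤ Module.finrank K W := by
  have := D.finL
  have := D.neL
  have : Module.Finite K W := Module.Finite.of_finite
  by_contra hc
  have h1 : Module.finrank K W = 1 := by
    have : 0 < Module.finrank K W := Module.finrank_pos
    omega
  have hsc : ∀ a ∈ linSet K V (L i : Set (V ≃ₗ[ZMod p] V)), ∃ c : K, ∀ v, a v = c • v := by
    intro a ha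
    obtain ⟨w, hw, hs⟩ := finrank_eq_one_iff'.1 h1
    obtain ⟨c, hc⟩ := hs (D.ρ a w)
    refine ⟨c, fun v => ?_⟩
    have h2 : a = (c • LinearMap.id : Module.End K V) := by
      apply D.ext
      intro x w'
      obtain ⟨d, rfl⟩ := hs x
      rw [D.hl a ha, map_smul, ← hc, LinearMap.smul_apply, LinearMap.id_apply, ← map_smul, smul_comm,
        TensorProduct.smul_tmul']
    rw [h2]; rfl
  refine qs_nonab (H.qs i) (fun x y => Subtype.ext (LinearEquiv.ext fun v => ?_))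
  obtain ⟨c, hc⟩ := hsc { toFun := fun v => x.1 v, map_add' := map_add x.1, map_smul' := fun c v => H.lin i x x.2 c v }
    ⟨x, x.2, fun v => rfl⟩
  have hc' : ∀ v, x.1 v = c • v := hc
  change x.1 (y.1 v) = y.1 (x.1 v)
  rw [hc', hc', H.lin i y y.2]

/-- **section 4, the reduction**: `k = 2`, both tensor factors have dimension `2`, and `m ∣ 2 (q ^ 2 - 1)` -/
theorem Sec.reduce [Finite K] [Nontrivial V] (H : Sec K G L) (hh : Half G h) (h2 : 2 ≤ h) (hG : ¬ p ∣ Nat.card G)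
    (hk : 2 ≤ k) {m : ℕ} (hm : m * h = Nat.card G) :
    k = 2 ∧ m ∣ 2 * (Nat.card K ^ 2 - 1) ∧ ∀ (i : Fin k) (W W' : Type u) [AddCommGroup W] [Module K W]
      [AddCommGroup W'] [Module K W'] (C : Set (Module.End K V)),
      Two (linSet K V (L i : Set (V ≃ₗ[ZMod p] V))) C →
      Dec (linSet K V (L i : Set (V ≃ₗ[ZMod p] V))) C W W' → Module.finrank K W = 2 ∧ Module.finrank K W' = 2 := by
  obtain ⟨w, hw0, hw⟩ := H.exists_w (by omega)
  obtain ⟨h3, h4⟩ := Fam.count k H.fam (fun _ => w) hw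
  rw [Finset.prod_const, Finset.card_univ, Fintype.card_fin] at h3 h4
  have hrk : ∀ (i : Fin k) (W W' : Type u) [AddCommGroup W] [Module K W]
      [AddCommGroup W'] [Module K W'] (C : Set (Module.End K V)),
      Two (linSet K V (L i : Set (V ≃ₗ[ZMod p] V))) C →
      Dec (linSet K V (L i : Set (V ≃ₗ[ZMod p] V))) C W W' →
      Module.finrank K W = w ∧ 2 ≤ w ∧ w * Module.finrank K W' = w ^ k := by
    intro i W W' _ _ _ _ C hT D
    have := D.finL
    have := D.finR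
    have := D.neR
    have : Module.Finite K W := Module.Finite.of_finite
    have : Module.Finite K W' := Module.Finite.of_finite
    obtain ⟨w₁, hw₁⟩ := exists_ne (0 : W')
    have h5 := finrank_irr hT D (range_cmap_irr hT D hw₁)
    rw [hw i _ (range_cmap_irr hT D hw₁)] at h5
    refine ⟨h5.symm, ?_, ?_⟩
    · rw [h5]; exact H.two_le i D
    · rw [← h3, ← D.φ.finrank_eq, Module.finrank_tensorProduct, h5]
  have hw2 : 2 ≤ w := by
    obtain ⟨W, W', _, _, _, _, ⟨D⟩⟩ := exists_dec (H.fam.twoAt (⟨0, by omega⟩ : Fin k))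
    exact (hrk _ W W' _ (H.fam.twoAt (⟨0, by omega⟩ : Fin k)) D).2.1
  have hcard : Nat.card V = Nat.card K ^ (w ^ k) := by
    have : Module.Finite K V := Module.Finite.of_finite
    rw [Module.natCard_eq_pow_finrank (K := K), h3]
  have hq : 2 ≤ Nat.card K := Finite.one_lt_card
  obtain ⟨e1, e2, e3⟩ := num_pure hq hk hw2 h4
    (dvd_invariant hh (by omega) hm _ (fun h => h.1 rfl) (fun g hg v hv => H.pu_inv hg hv))
    (by rw [← hcard]; exact dvd_card_sub_one hh (by omega) hm)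
    (by rw [← hcard]; exact card_le hG hh h2 hm)
  refine ⟨e1, e3, ?_⟩
  intro i W W' _ _ _ _ C hT D
  obtain ⟨a1, a2, a3⟩ := hrk i W W' C hT D
  refine ⟨a1.trans e2, ?_⟩
  rw [e1, e2] at a3
  omega

end Main

section Final

variable {p : ℕ} [Fact p.Prime] {V : Type u} [AddCommGroup V] [Module (ZMod p) V] [Finite V]
variable {G : Subgroup (V ≃ₗ[ZMod p] V)} {h : ℕ}

/-- the field of scalars -/
theorem exists_sec [Nontrivial V] {k : ℕ} (L : Fin k → Subgroup (V ≃ₗ[ZMod p] V))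
    (hq : ∀ i, Cfsg.IsQuasisimple (L i))
    (hcomm : ∀ i j, i ≠ j → ∀ x ∈ L i, ∀ y ∈ L j, x * y = y * x)
    (hperm : ∀ g ∈ G, ∀ i, ∃ j, ∀ x ∈ L i, g * x * g⁻¹ ∈ L j)
    (htrans : ∀ i j, ∃ g ∈ G, ∀ x ∈ L i, g * x * g⁻¹ ∈ L j)
    (hE : ∀ W : Submodule (ZMod p) V, (∀ g ∈ (⨆ i, L i : Subgroup (V ≃ₗ[ZMod p] V)), ∀ v ∈ W, g v ∈ W) →
      W = ⊥ ∨ W = ⊤) :
    ∃ (K : Type u) (_ : Field K) (_ : Finite K) (_ : Module K V), Sec K G L := by
  obtain ⟨K, i1, i2, i3, h1, h2, h3⟩ := exists_field_grp (V := V) (⨆ i, L i : Subgroup (V ≃ₗ[ZMod p] V)) (by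
    intro W hW
    rcases hE (AddSubgroup.toZModSubmodule p W) (fun g hg v hv => hW g hg v hv) with h | h
    · left
      rw [eq_bot_iff]
      intro x hx
      have : x ∈ AddSubgroup.toZModSubmodule p W := hx
      rw [h, Submodule.mem_bot] at this
      exact this
    · right
      rw [eq_top_iff]
      intro x _
      have : x ∈ AddSubgroup.toZModSubmodule p W := by rw [h]; trivial
      exact this)
  have hle : ∀ i, L i ≤ (⨆ i, L i : Subgroup (V ≃ₗ[ZMod p] V)) := fun i => le_iSup L i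
  refine ⟨K, i1, i2, i3, hq, hcomm, hperm, htrans, ?_, ?_, ?_, ?_⟩
  · intro i x hx c v
    exact h1 x (hle i hx) c v
  · intro W hW
    have hst : (⨆ i, L i : Subgroup (V ≃ₗ[ZMod p] V)) ≤ stabSub W := by
      refine iSup_le (fun i x hx => ⟨fun w hw => hW i x hx w hw, fun w hw => hW i x⁻¹ ((L i).inv_mem hx) w hw⟩)
    rcases hE (AddSubgroup.toZModSubmodule p W) (fun g hg v hv => (hst hg).1 v hv) with h | h
    · left
      rw [eq_bot_iff]
      intro x hx
      have : x ∈ AddSubgroup.toZModSubmodule p W := hx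
      rw [h, Submodule.mem_bot] at this
      exact this
    · right
      rw [eq_top_iff]
      intro x _
      have : x ∈ AddSubgroup.toZModSubmodule p W := by rw [h]; trivial
      exact this
  · intro f hf
    have hst : (⨆ i, L i : Subgroup (V ≃ₗ[ZMod p] V)) ≤ commSub f := iSup_le (fun i x hx v => hf i x hx v)
    exact h2 f (fun y hy v => hst hy v)
  · intro g hg
    apply h3
    have hmap : ∀ g ∈ G, ∀ x ∈ (⨆ i, L i : Subgroup (V ≃ₗ[ZMod p] V)), g * x * g⁻¹ ∈ (⨆ i, L i : Subgroup (V ≃ₗ[ZMod p] V)) := by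
      intro g hg
      have : (⨆ i, L i : Subgroup (V ≃ₗ[ZMod p] V)) ≤ (⨆ i, L i : Subgroup (V ≃ₗ[ZMod p] V)).comap (MulAut.conj g).toMonoidHom := by
        refine iSup_le (fun i x hx => ?_)
        obtain ⟨j, hj⟩ := hperm g hg i
        exact hle j (hj x hx)
      exact fun x hx => this hx
    rw [Subgroup.mem_normalizer_iff]
    intro x
    refine ⟨hmap g hg x, fun hx => ?_⟩
    have := hmap g⁻¹ (G.inv_mem hg) _ hx
    have e : g⁻¹ * (g * x * g⁻¹) * g⁻¹⁻¹ = x := by group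
    rwa [e] at this

/-- the setting `TT` -/
theorem Sec.exists_TT {K : Type u} [Field K] [Finite K] [Module K V] [Nontrivial V]
    {L : Fin 2 → Subgroup (V ≃ₗ[ZMod p] V)} (H : Sec K G L) (hLG : ∀ i, L i ≤ G) (hh : Half G h) (h2 : 2 ≤ h)
    (hG : ¬ p ∣ Nat.card G) {m : ℕ} (hm : m * h = Nat.card G) :
    ∃ (W W' : Type u) (_ : AddCommGroup W) (_ : Module K W) (_ : AddCommGroup W') (_ : Module K W'),
      Nonempty (TT p K V W W' G (L 0) (L 1) h) := by
  have hT : Two (linSet K V (L 0 : Set (V ≃ₗ[ZMod p] V))) (linSet K V (L 1 : Set (V ≃ₗ[ZMod p] V))) :=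
    { comm := fun l hl c hc => H.fam.comm 0 1 (by decide) l hl c hc
      irr := fun U h0 h1 => H.fam.irr U (fun i => by
        fin_cases i
        · exact h0
        · exact h1)
      sch := fun f h0 h1 => H.fam.sch f (fun i => by
        fin_cases i
        · exact h0
        · exact h1) }
  obtain ⟨W, W', i1, i2, i3, i4, ⟨D⟩⟩ := exists_dec hT
  obtain ⟨-, -, e⟩ := H.reduce hh h2 hG le_rfl hm
  obtain ⟨e1, e2⟩ := e 0 W W' _ hT D
  refine ⟨W, W', i1, i2, i3, i4, ⟨?_⟩⟩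
  refine
    { half := hh
      two_le := h2
      cop := hG
      leA := hLG 0
      leB := hLG 1
      qsA := H.qs 0
      qsB := H.qs 1
      comm := H.comm 0 1 (by decide)
      perm := ?_
      linA := H.lin 0
      linB := H.lin 1
      sch := fun f h0 h1 => H.sch f (fun i => by
        fin_cases i
        · exact h0
        · exact h1)
      D := D
      rkW := e1
      rkW' := e2 }
  intro g hg
  obtain ⟨j, hj⟩ := perm_iff H.qs H.comm H.perm hg 0
  obtain ⟨j', hj'⟩ := perm_iff H.qs H.comm H.perm hg 1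
  have hne : j ≠ j' := by
    rintro rfl
    have := comp_ne H.qs H.comm (i := 0) (j := 1) (fun x hx => (hj' x).2 ((hj x).1 hx))
    exact absurd this (by decide)
  fin_cases j <;> fin_cases j'
  · exact absurd rfl hne
  · exact Or.inl ⟨fun a ha => (hj a).1 ha, fun a ha => (hj' a).1 ha⟩
  · exact Or.inr ⟨fun a ha => (hj a).1 ha, fun a ha => (hj' a).1 ha⟩
  · exact absurd rfl hne

/-- the final contradiction -/
theorem num_end {q m : ℕ} (hq : 2 ≤ q) (h1 : m ∣ 2 * (q ^ 2 - 1)) (h2 : 14400 ≤ m * (q - 1)) (h3 : q ^ 2 + 1 ≤ 312) :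
    False := by
  have h4 : q ≤ 17 := by nlinarith
  have h5 : 0 < 2 * (q ^ 2 - 1) := by
    have : 2 ^ 2 ≤ q ^ 2 := Nat.pow_le_pow_left hq 2
    omega
  have h6 : m ≤ 2 * (q ^ 2 - 1) := Nat.le_of_dvd h5 h1
  have h7 : q ^ 2 ≤ 17 ^ 2 := Nat.pow_le_pow_left h4 2
  have h8 : m ≤ 576 := by omega
  have h9 : m * (q - 1) ≤ 576 * 16 := Nat.mul_le_mul h8 (by omega)
  omega

end Final

end Cfsg.Agent.H138.HT
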