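import Cfsg.Agent.H138.HT.Comps
import Cfsg.Agent.H926.HT.Tens
import Cfsg.Agent.H19.HT.Gen
import Cfsg.Agent.S0690
import Cfsg.Agent.PermutationGroups.AutSL25

/-!
# S3512: at least two components, `p ∣ |G|` (`comps_falseP`)
-/

set_option autoImplicit false
set_option linter.unusedSectionVars false

universe u

namespace Cfsg.Agent.H138.HT

open Cfsg.Agent.H828.HT Cfsg.Agent.Omega.NO1.Comp Module
open scoped TensorProduct

section TQ

variable {p : ℕ} [hp : Fact p.Prime] {K : Type u} [Field K] {V : Type u} [AddCommGroup V] [Module (ZMod p) V]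
    [Module K V] {W W' : Type u} [AddCommGroup W] [Module K W] [AddCommGroup W'] [Module K W']
    {A : Subgroup (V ≃ₗ[ZMod p] V)} {C : Set (Module.End K V)}

/-- one factor of dimension two, no hypothesis on `G` -/
structure TQ (p : ℕ) [Fact p.Prime] (K : Type u) [Field K] (V : Type u) [AddCommGroup V] [Module (ZMod p) V]
    [Module K V] (W W' : Type u) [AddCommGroup W] [Module K W] [AddCommGroup W'] [Module K W']
    (A : Subgroup (V ≃ₗ[ZMod p] V)) (C : Set (Module.End K V)) where
  cop : ¬ p ∣ Nat.card A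
  qs : Cfsg.IsQuasisimple A
  lin : ∀ a ∈ A, ∀ (c : K) (v : V), a (c • v) = c • a v
  D : Dec (linSet K V (A : Set (V ≃ₗ[ZMod p] V))) C W W'
  rk : Module.finrank K W = 2

namespace TQ

/-- the `K`-linear map of an element of `A` -/
def la (T : TQ p K V W W' A C) (a : A) : Module.End K V where
  toFun v := (a : V ≃ₗ[ZMod p] V) v
  map_add' v w := map_add _ v w
  map_smul' c v := T.lin a a.2 c v

theorem la_mem (T : TQ p K V W W' A C) (a : A) : T.la a ∈ linSet K V (A : Set (V ≃ₗ[ZMod p] V)) :=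
  ⟨a, a.2, fun _ => rfl⟩

theorem la_phi (T : TQ p K V W W' A C) (a : A) (w : W) (w' : W') :
    (a : V ≃ₗ[ZMod p] V) (T.D.φ (w ⊗ₜ w')) = T.D.φ (T.D.ρ (T.la a) w ⊗ₜ w') :=
  T.D.hl _ (T.la_mem a) w w'

/-- the representation of `A` on `W` -/
noncomputable def RA (T : TQ p K V W W' A C) : A →* Module.End K W where
  toFun a := T.D.ρ (T.la a)
  map_one' := by
    have := T.D.neR
    obtain ⟨w', hw'⟩ := exists_ne (0 : W')
    ext w
    apply T.D.inj_left hw'
    rw [← la_phi]
    rfl
  map_mul' a b := by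
    have := T.D.neR
    obtain ⟨w', hw'⟩ := exists_ne (0 : W')
    ext w
    apply T.D.inj_left hw'
    rw [← la_phi]
    change (a : V ≃ₗ[ZMod p] V) ((b : V ≃ₗ[ZMod p] V) (T.D.φ (w ⊗ₜ w'))) = _
    rw [la_phi, la_phi]
    rfl

theorem RA_phi (T : TQ p K V W W' A C) (a : A) (w : W) (w' : W') :
    (a : V ≃ₗ[ZMod p] V) (T.D.φ (w ⊗ₜ w')) = T.D.φ (T.RA a w ⊗ₜ w') := T.la_phi a w w'

theorem RA_inj (T : TQ p K V W W' A C) {a : A} (ha : T.RA a = 1) : a = 1 := by
  have h1 : T.la a = LinearMap.id := by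
    apply T.D.ext
    intro w w'
    change (a : V ≃ₗ[ZMod p] V) (T.D.φ (w ⊗ₜ w')) = T.D.φ (w ⊗ₜ w')
    rw [RA_phi, ha]
    rfl
  apply Subtype.ext
  apply LinearEquiv.ext
  intro v
  exact LinearMap.congr_fun h1 v

theorem det_one (T : TQ p K V W W' A C) (a : A) : LinearMap.det (T.RA a) = 1 := by
  let δ : A →* Kˣ := ((LinearMap.det : Module.End K W →* K).comp T.RA).toHomUnits
  have h1 : δ.ker = ⊤ := by
    have h2 : commutator A = ⊤ := T.qs.1.commutator_eq_top
    rw [eq_top_iff, ← h2]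
    exact Abelianization.commutator_subset_ker δ
  have h3 : δ a = 1 := by rw [← MonoidHom.mem_ker, h1]; trivial
  have h4 := congrArg (fun u : Kˣ => (u : K)) h3
  exact h4

theorem charP_of (T : TQ p K V W W' A C) : (p : K) = 0 := by
  have := T.D.neL
  have := T.D.neR
  obtain ⟨w, hw⟩ := exists_ne (0 : W)
  obtain ⟨w', hw'⟩ := exists_ne (0 : W')
  have hv := T.D.ne_zero hw hw'
  have h2 : (p : ℕ) • T.D.φ (w ⊗ₜ w') = 0 := by
    rw [← Nat.cast_smul_eq_nsmul (ZMod p), ZMod.natCast_self, zero_smul]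
  rw [← Nat.cast_smul_eq_nsmul K] at h2
  exact (smul_eq_zero.1 h2).resolve_right hv

/-- an element of `A` with a non-zero fixed vector in `W` is trivial -/
theorem fpf [Finite V] (T : TQ p K V W W' A C) {a : A} {w : W} (hw : w ≠ 0) (ha : T.RA a w = w) : a = 1 := by
  have h1 := Cfsg.Agent.H926.HT.unip (p := p) T.rk (T.det_one a) hw ha T.charP_of
  rw [← map_pow] at h1
  have h2 : a ^ p = 1 := T.RA_inj h1
  have h3 : orderOf a ∣ p := orderOf_dvd_of_pow_eq_one h2
  rcases (Nat.dvd_prime hp.out).1 h3 with h4 | h4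
  · exact orderOf_eq_one_iff.1 h4
  · exfalso
    apply T.cop
    have h5 : orderOf a ∣ Nat.card A := orderOf_dvd_natCard a
    rwa [h4] at h5

/-- the action of `A` on the additive group `W`, written multiplicatively -/
noncomputable def act (T : TQ p K V W W' A C) : A →* MulAut (Multiplicative W) where
  toFun a :=
    { toFun := fun w => Multiplicative.ofAdd (T.RA a w.toAdd)
      invFun := fun w => Multiplicative.ofAdd (T.RA a⁻¹ w.toAdd)
      left_inv := fun w => by
        change Multiplicative.ofAdd ((T.RA a⁻¹ * T.RA a) w.toAdd) = w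
        rw [← map_mul, inv_mul_cancel, map_one]; rfl
      right_inv := fun w => by
        change Multiplicative.ofAdd ((T.RA a * T.RA a⁻¹) w.toAdd) = w
        rw [← map_mul, mul_inv_cancel, map_one]; rfl
      map_mul' := fun x y => by
        change Multiplicative.ofAdd (T.RA a (x.toAdd + y.toAdd)) = _
        rw [map_add]; rfl }
  map_one' := by
    ext w
    change Multiplicative.ofAdd (T.RA 1 w.toAdd) = w
    rw [map_one]; rfl
  map_mul' a b := by
    ext w
    change Multiplicative.ofAdd (T.RA (a * b) w.toAdd) = _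
    rw [map_mul]; rfl

/-- **`A` is isomorphic to `SL(2,5)`** -/
theorem sl [Finite V] (T : TQ p K V W W' A C) : Nonempty (A ≃* Matrix.SpecialLinearGroup (Fin 2) (ZMod 5)) := by
  have := T.D.finL
  have hfin : Finite (Multiplicative W) := this
  have hinj : Function.Injective T.act := by
    rw [injective_iff_map_eq_one]
    intro a ha
    apply T.RA_inj
    ext w
    have h1 := DFunLike.congr_fun ha (Multiplicative.ofAdd w)
    exact congrArg Multiplicative.toAdd h1
  have hperf : commutator A = ⊤ := T.qs.1.commutator_eq_top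
  obtain ⟨e⟩ := Cfsg.Agent.S0690.result T.act.range (by
      rintro _ ⟨a, rfl⟩ h1 w hw
      by_contra hw1
      apply h1
      have h2 : a = 1 := T.fpf (w := w.toAdd) (fun h0 => hw1 (by
        have := congrArg Multiplicative.ofAdd h0
        exact this)) (congrArg Multiplicative.toAdd hw)
      rw [h2, map_one]) (by
      have h1 : (commutator A).map T.act.rangeRestrict = commutator T.act.range := by
        rw [_root_.commutator_def, _root_.commutator_def, Subgroup.map_commutator]
        congr 1 <;> exact Subgroup.map_top_of_surjective _ T.act.rangeRestrict_surjective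
      rw [← h1, hperf, Subgroup.map_top_of_surjective _ T.act.rangeRestrict_surjective]) (by
      intro h0
      refine qs_nonab T.qs (fun x y => ?_)
      have h1 : ∀ x : A, x = 1 := by
        intro x
        apply hinj
        have : T.act x ∈ T.act.range := ⟨x, rfl⟩
        rw [h0, Subgroup.mem_bot] at this
        rw [this, map_one]
      rw [h1 x, h1 y])
  exact ⟨(MonoidHom.ofInjective hinj).trans e⟩

end TQ

end TQ

/-- an automorphism of `p`-power order of `SL(2,5)`, `p` prime to `120`, is trivial -/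
theorem aut_triv {X : Type*} [Group X] (e : X ≃* Matrix.SpecialLinearGroup (Fin 2) (ZMod 5)) {p : ℕ}
    (hp : p.Prime) (hX : ¬ p ∣ Nat.card X) (φ : MulAut X) (hφ : φ ^ p = 1) : φ = 1 := by
  have hc : Nat.card X = 120 := by
    rw [Nat.card_congr e.toEquiv]
    exact Cfsg.Agent.PermutationGroups.AutSL25.natCard
  rw [hc] at hX
  have hfin : Finite X := Nat.finite_of_card_ne_zero (by rw [hc]; decide)
  have h60 : 60 ∣ Nat.card (MulAut (Matrix.SpecialLinearGroup (Fin 2) (ZMod 5))) := by
    have h1 := Subgroup.card_mul_index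
      (MulAut.conj : Matrix.SpecialLinearGroup (Fin 2) (ZMod 5) →* MulAut _).ker
    have h2 : (MulAut.conj : Matrix.SpecialLinearGroup (Fin 2) (ZMod 5) →* MulAut _).ker =
        Subgroup.center _ := by
      ext a
      rw [MonoidHom.mem_ker, Subgroup.mem_center_iff]
      constructor
      · intro h b
        have := congrArg (fun f : MulAut _ => f b) h
        simp only [MulAut.conj_apply, MulAut.one_apply] at this
        exact (mul_inv_eq_iff_eq_mul.1 this).symm
      · intro h
        ext1 b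
        rw [MulAut.conj_apply, MulAut.one_apply, ← h b, mul_inv_cancel_right]
    rw [Subgroup.index_ker, h2, Cfsg.Agent.PermutationGroups.AutSL25.card_center,
      Cfsg.Agent.PermutationGroups.AutSL25.natCard] at h1
    have h3 : Nat.card (MulAut.conj : Matrix.SpecialLinearGroup (Fin 2) (ZMod 5) →* MulAut _).range = 60 := by
      omega
    rw [← h3]
    exact Subgroup.card_subgroup_dvd_card _
  have hcX : Nat.card (MulAut X) = Nat.card (MulAut (Matrix.SpecialLinearGroup (Fin 2) (ZMod 5))) :=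
    Nat.card_congr (MulAut.congr e).toEquiv
  have hle := Cfsg.Agent.PermutationGroups.AutSL25.card_mulAut_le
  have hle' : Nat.card (MulAut (Matrix.SpecialLinearGroup (Fin 2) (ZMod 5))) ≤ 120 := hle
  have hpos : 0 < Nat.card (MulAut (Matrix.SpecialLinearGroup (Fin 2) (ZMod 5))) := by
    have : Finite (MulAut (Matrix.SpecialLinearGroup (Fin 2) (ZMod 5))) := inferInstance
    exact Nat.card_pos
  have h120 : Nat.card (MulAut X) ∣ 120 := by
    rw [hcX]
    obtain ⟨k, hk⟩ := h60
    rw [hk] at hle' hpos ⊢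
    have hk2 : k ≤ 2 := by omega
    interval_cases k
    · omega
    · decide
    · decide
  have h1 : orderOf φ ∣ p := orderOf_dvd_of_pow_eq_one hφ
  rcases (Nat.dvd_prime hp).1 h1 with h4 | h4
  · exact orderOf_eq_one_iff.1 h4
  · exfalso
    apply hX
    have h5 : orderOf φ ∣ Nat.card (MulAut X) := orderOf_dvd_natCard φ
    rw [h4] at h5
    exact h5.trans h120

section Main

variable {p : ℕ} [hp : Fact p.Prime] {V : Type u} [AddCommGroup V] [Module (ZMod p) V] [Finite V]
variable {G : Subgroup (V ≃ₗ[ZMod p] V)} {h : ℕ} {K : Type u} [Field K] [Module K V] {k : ℕ}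
  {L : Fin k → Subgroup (V ≃ₗ[ZMod p] V)}

/-- the reduction, without a hypothesis on `p ∣ |G|` -/
theorem Sec.reduceP [Finite K] [Nontrivial V] (H : Sec K G L) (hh : Half G h) (h2 : 2 ≤ h)
    (hk : 2 ≤ k) {m : ℕ} (hm : m * h = Nat.card G) :
    k = 2 ∧ m ∣ 2 * (Nat.card K ^ 2 - 1) ∧ ∀ (i : Fin k) (W W' : Type u) [AddCommGroup W] [Module K W]
      [AddCommGroup W'] [Module K W'] (C : Set (Module.End K V)),
      Two (linSet K V (L i : Set (V ≃ₗ[ZMod p] V))) C →
      Dec (linSet K V (L i : Set (V ≃ₗ[ZMod p] V))) C W W' → Module.finrank K W = 2 ∧ Module.finrank K W' = 2 := by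
  obtain ⟨w, hw0, hw⟩ := H.exists_w (by omega)
  obtain ⟨h3, h4⟩ := Fam.count k H.fam (fun _ => w) hw
  rw [Finset.prod_const, Finset.card_univ, Fintype.card_fin] at h3 h4
  have hrk : ∀ (i : Fin k) (W W' : Type u) [AddCommGroup W] [Module K W]
      [AddCommGroup W'] [Module K W'] (C : Set (Module.End K V)),
      Two (linSet K V (L i : Set (V ≃ₗ[ZMod p] V))) C →
      Dec (linSet K V (L i : Set (V ≃ₗ[ZMod p] V))) C W W' →
      Module.finrank K W = w ∧ 2 ≤ w ∧ w * Module.finrank K W' = w ^ k := by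
    intro i W W' _ _ _ _ C hT D
    have := D.finL
    have := D.finR
    have := D.neR
    have : Module.Finite K W := Module.Finite.of_finite
    have : Module.Finite K W' := Module.Finite.of_finite
    obtain ⟨w₁, hw₁⟩ := exists_ne (0 : W')
    have h5 := finrank_irr hT D (range_cmap_irr hT D hw₁)
    rw [hw i _ (range_cmap_irr hT D hw₁)] at h5
    refine ⟨h5.symm, ?_, ?_⟩
    · rw [h5]; exact H.two_le i D
    · rw [← h3, ← D.φ.finrank_eq, Module.finrank_tensorProduct, h5]
  have hw2 : 2 ≤ w := by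
    obtain ⟨W, W', _, _, _, _, ⟨D⟩⟩ := exists_dec (H.fam.twoAt (⟨0, by omega⟩ : Fin k))
    exact (hrk _ W W' _ (H.fam.twoAt (⟨0, by omega⟩ : Fin k)) D).2.1
  have hcard : Nat.card V = Nat.card K ^ (w ^ k) := by
    have : Module.Finite K V := Module.Finite.of_finite
    rw [Module.natCard_eq_pow_finrank (K := K), h3]
  have hq : 2 ≤ Nat.card K := Finite.one_lt_card
  obtain ⟨e1, e2, e3⟩ := num_pure hq hk hw2 h4
    (dvd_invariant hh (by omega) hm _ (fun h => h.1 rfl) (fun g hg v hv => H.pu_inv hg hv))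
    (by rw [← hcard]; exact dvd_card_sub_one hh (by omega) hm)
    (by rw [← hcard]; exact Cfsg.Agent.H19.HT.card_le hh h2 hm)
  refine ⟨e1, e3, ?_⟩
  intro i W W' _ _ _ _ C hT D
  obtain ⟨a1, a2, a3⟩ := hrk i W W' C hT D
  refine ⟨a1.trans e2, ?_⟩
  rw [e1, e2] at a3
  omega

end Main

theorem fin2 : ∀ i j j' : Fin 2, ¬ j = i → ¬ j' = i → j' = j := by decide

/-- conjugation by `g` as an automorphism of a normalised subgroup -/
theorem exists_conj {X : Type*} [Group X] {A : Subgroup X} {g : X} (hg : ∀ x, x ∈ A ↔ g * x * g⁻¹ ∈ A) :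
    ∃ φ : MulAut A, ∀ (n : ℕ) (x : A), (((φ ^ n) x : A) : X) = g ^ n * x * (g ^ n)⁻¹ := by
  let φ : MulAut A :=
    { toFun := fun x => ⟨g * x * g⁻¹, (hg x).1 x.2⟩
      invFun := fun x => ⟨g⁻¹ * x * g, by
        rw [hg]
        have e : g * (g⁻¹ * x * g) * g⁻¹ = x := by group
        rw [e]; exact x.2⟩
      left_inv := fun x => Subtype.ext (by
        change g⁻¹ * (g * x * g⁻¹) * g = x
        group)
      right_inv := fun x => Subtype.ext (by
        change g * (g⁻¹ * x * g) * g⁻¹ = x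
        group)
      map_mul' := fun x y => Subtype.ext (by
        change g * (x * y) * g⁻¹ = (g * x * g⁻¹) * (g * y * g⁻¹)
        group) }
  refine ⟨φ, fun n => ?_⟩
  induction n with
  | zero => intro x; simp
  | succ n ih =>
    intro x
    rw [pow_succ, MulAut.mul_apply, ih]
    change g ^ n * (g * x * g⁻¹) * (g ^ n)⁻¹ = _
    rw [pow_succ]
    group

/-- **Section 4 of S3512**: there are not at least two components. -/
theorem comps_falseP (p : ℕ) [hp : Fact p.Prime] (V : Type u) [AddCommGroup V] [Module (ZMod p) V] [Finite V]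
    (G : Subgroup (V ≃ₗ[ZMod p] V)) (h : ℕ) (hh : Half G h) (h2 : 2 ≤ h) (hG : p ∣ Nat.card G) (k : ℕ)
    (hk : 2 ≤ k) (L : Fin k → Subgroup (V ≃ₗ[ZMod p] V)) (_hinj : Function.Injective L) (_hLG : ∀ i, L i ≤ G)
    (hq : ∀ i, Cfsg.IsQuasisimple (L i)) (hcop : ∀ i, ¬ p ∣ Nat.card (L i))
    (hcomm : ∀ i j, i ≠ j → ∀ x ∈ L i, ∀ y ∈ L j, x * y = y * x)
    (hperm : ∀ g ∈ G, ∀ i, ∃ j, ∀ x ∈ L i, g * x * g⁻¹ ∈ L j)
    (htrans : ∀ i j, ∃ g ∈ G, ∀ x ∈ L i, g * x * g⁻¹ ∈ L j)
    (hE : ∀ W : Submodule (ZMod p) V, (∀ g ∈ (⨆ i, L i : Subgroup (V ≃ₗ[ZMod p] V)), ∀ v ∈ W, g v ∈ W) →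
      W = ⊥ ∨ W = ⊤) : False := by
  have hV : Nontrivial V := by
    by_contra hV
    rw [not_nontrivial_iff_subsingleton] at hV
    exact qs_nonab (hq ⟨0, by omega⟩) (fun x y => Subtype.ext (LinearEquiv.ext fun v => Subsingleton.elim _ _))
  obtain ⟨K, i1, i2, i3, H⟩ := exists_sec L hq hcomm hperm htrans hE
  obtain ⟨m, hm, -⟩ := exists_m hh (exists_ne (0 : V))
  obtain ⟨hk2, -, hred⟩ := H.reduceP hh h2 hk hm
  subst hk2
  -- both components are `SL(2,5)`
  have hsl : ∀ i, Nonempty (L i ≃* Matrix.SpecialLinearGroup (Fin 2) (ZMod 5)) := by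
    intro i
    have hT := H.fam.twoAt i
    obtain ⟨W, W', j1, j2, j3, j4, ⟨D⟩⟩ := exists_dec hT
    exact TQ.sl { cop := hcop i, qs := hq i, lin := H.lin i, D := D, rk := (hred i W W' _ hT D).1 }
  have hch : (p : K) = 0 := by
    obtain ⟨v, hv⟩ := exists_ne (0 : V)
    have h3 : (p : ℕ) • v = 0 := by
      rw [← Nat.cast_smul_eq_nsmul (ZMod p), ZMod.natCast_self, zero_smul]
    rw [← Nat.cast_smul_eq_nsmul K] at h3
    exact (smul_eq_zero.1 h3).resolve_right hv
  have c0 : Nat.card (L 0) = 120 := by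
    obtain ⟨e⟩ := hsl 0
    rw [Nat.card_congr e.toEquiv]
    exact Cfsg.Agent.PermutationGroups.AutSL25.natCard
  have hp2 : p ≠ 2 := by
    rintro rfl
    apply hcop 0
    rw [c0]; decide
  -- an element of order `p`
  have hfG : Finite G := inferInstance
  obtain ⟨g, hg⟩ := exists_prime_orderOf_dvd_card' p hG
  have hgp : (g : V ≃ₗ[ZMod p] V) ^ p = 1 := by
    have h3 : g ^ p = 1 := orderOf_dvd_iff_pow_eq_one.1 (by rw [hg])
    exact congrArg Subtype.val h3
  have hg1 : (g : V ≃ₗ[ZMod p] V) ≠ 1 := by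
    intro h0
    have : g = 1 := Subtype.ext h0
    rw [this, orderOf_one] at hg
    exact hp.out.one_lt.ne hg
  obtain ⟨g, hgG⟩ := g
  change g ^ p = 1 at hgp
  change g ≠ 1 at hg1
  -- the square fixes the components
  have hsq : ∀ i, ∀ x, x ∈ L i ↔ (g ^ 2) * x * (g ^ 2)⁻¹ ∈ L i := by
    intro i
    obtain ⟨j, hj⟩ := perm_iff H.qs H.comm H.perm hgG i
    obtain ⟨j', hj'⟩ := perm_iff H.qs H.comm H.perm hgG j
    have hne : j = i ∨ j' = i := by
      by_cases hji : j = i
      · exact Or.inl hji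
      · right
        by_contra hj'i
        have hj'j : j' = j := fin2 i j j' hji hj'i
        subst hj'j
        have := comp_ne H.qs H.comm (i := i) (j := j') (fun x hx => (hj' x).2 ((hj x).1 hx))
        exact hji this.symm
    have e : ∀ x, (g ^ 2) * x * (g ^ 2)⁻¹ = g * (g * x * g⁻¹) * g⁻¹ := by
      intro x
      rw [pow_two]
      group
    rcases hne with h3 | h3
    · subst h3
      intro x
      rw [e, ← hj, ← hj]
    · subst h3
      intro x
      rw [e, ← hj', ← hj]
  obtain ⟨n, hn⟩ : ∃ n, 2 * n = p + 1 := by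
    have := (hp.out.eq_two_or_odd').resolve_left hp2
    obtain ⟨t, ht⟩ := this
    exact ⟨t + 1, by omega⟩
  have hgn : (g ^ 2) ^ n = g := by
    rw [← pow_mul, hn, pow_succ, hgp, one_mul]
  have hcent : ∀ i, ∀ x ∈ L i, g * x = x * g := by
    intro i
    obtain ⟨φ, hφ⟩ := exists_conj (hsq i)
    obtain ⟨e⟩ := hsl i
    have h1 : φ ^ p = 1 := by
      ext x
      rw [hφ, ← pow_mul, mul_comm 2 p, pow_mul, hgp, one_pow]
      simp
    have h3 : φ = 1 := aut_triv e hp.out (hcop i) φ h1
    intro x hx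
    have h4 := hφ n ⟨x, hx⟩
    rw [h3, one_pow, hgn] at h4
    have h5 : x = g * x * g⁻¹ := h4
    exact (mul_inv_eq_iff_eq_mul.1 h5.symm)
  obtain ⟨c, hc⟩ := H.sch (AddMonoidHom.mk' (fun v => g v) (map_add g)) (fun i x hx v =>
    LinearEquiv.congr_fun (hcent i x hx) v)
  have hc' : ∀ v, g v = c • v := hc
  have hlin : ∀ (n : ℕ) (v : V), (g ^ n) v = c ^ n • v := by
    intro n
    induction n with
    | zero => intro v; rw [pow_zero, pow_zero, one_smul]; rfl
    | succ n ih =>
      intro v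
      rw [pow_succ, pow_succ, mul_smul, ← hc', ← ih]
      rfl
  apply hg1
  have hchar : CharP K p := by
    have := CharP.exists K
    obtain ⟨q, hq'⟩ := this
    have h3 := (CharP.cast_eq_zero_iff K q p).1 hch
    rcases (Nat.dvd_prime hp.out).1 h3 with h4 | h4
    · subst h4
      have h5 := CharP.cast_eq_zero K 1
      rw [Nat.cast_one] at h5
      exact (one_ne_zero h5).elim
    · subst h4; exact hq'
  obtain ⟨v, hv⟩ := exists_ne (0 : V)
  have h3 : c ^ p = 1 := by
    have h4 := hlin p v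
    rw [hgp] at h4
    have h5 : (c ^ p - 1) • v = 0 := by
      rw [sub_smul, one_smul, ← h4]
      exact sub_self v
    rcases smul_eq_zero.1 h5 with h6 | h6
    · exact sub_eq_zero.1 h6
    · exact (hv h6).elim
  have h4 : c = 1 := by
    have h5 : (c - 1) ^ p = 0 := by
      rw [sub_pow_char, h3, one_pow, sub_self]
    exact sub_eq_zero.1 (pow_eq_zero_iff hp.out.ne_zero |>.1 h5)
  ext v
  rw [hc', h4, one_smul]
  rfl

end Cfsg.Agent.H138.HT
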