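import Cfsg.Agent.H138.HT.TT
import Cfsg.Agent.H138.HT.Fam

/-!
# S3540, section 4, `2 × 2`: eigenvectors, and `r ∣ h`
-/

set_option autoImplicit false
set_option linter.unusedSectionVars false

universe u

namespace Cfsg.Agent.H138.HT

open Cfsg.Agent.H828.HT Cfsg.Agent.Omega.NO1.Comp Module TensorProduct

section Count

variable {K V : Type u} [Field K] [Finite K] [AddCommGroup V] [Module K V] [Finite V]

theorem sum_finrank_le' {ι : Type*} [Fintype ι] {P : ι → Submodule K V} (hp : iSupIndep P) :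
    ∑ i, finrank K (P i) ≤ finrank K V := by
  classical
  have : Module.Finite K V := Module.Finite.of_finite
  have h1 := hp.dfinsupp_lsum_injective
  have h2 := LinearMap.finrank_le_finrank_of_injective h1
  have h3 : finrank K (Π₀ i, P i) = ∑ i, finrank K (P i) := Module.finrank_directSum K (fun i => ↥(P i))
  rw [← h3]
  exact h2

/-- the number of eigenvectors, if all the eigenspaces have dimension at most `2` and `dim V = 4` -/
theorem card_eig (f : Module.End K V) (h4 : finrank K V = 4) (h2 : ∀ c : K, finrank K (f.eigenspace c) ≤ 2) :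
    Nat.card {v : V // v ≠ 0 ∧ ∃ c : K, f v = c • v} ≤ 2 * (Nat.card K ^ 2 - 1) := by
  classical
  have := Fintype.ofFinite K
  have hfd : Module.Finite K V := Module.Finite.of_finite
  have h1 : Nat.card {v : V // v ≠ 0 ∧ ∃ c : K, f v = c • v} ≤
      Nat.card (Σ c : K, {v : f.eigenspace c // v ≠ 0}) := by
    refine Nat.card_le_card_of_injective (fun v => ⟨v.2.2.choose, ⟨v.1, ?_⟩, ?_⟩) ?_
    · exact Module.End.mem_eigenspace_iff.2 v.2.2.choose_spec
    · intro h
      exact v.2.1 (congrArg Subtype.val h)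
    · intro v w h
      apply Subtype.ext
      have : ∀ x y : (Σ c : K, {v : f.eigenspace c // v ≠ 0}), x = y → (x.2.1 : V) = (y.2.1 : V) := by
        rintro x _ rfl; rfl
      exact this _ _ h
  refine h1.trans ?_
  rw [Nat.card_sigma]
  have hq : 2 ≤ Nat.card K := Finite.one_lt_card
  have h3 : ∀ c : K, 2 * Nat.card {v : f.eigenspace c // v ≠ 0} ≤ finrank K (f.eigenspace c) * (Nat.card K ^ 2 - 1) := by
    intro c
    have e1 : Nat.card {v : f.eigenspace c // v ≠ 0} = Nat.card (f.eigenspace c) - 1 := by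
      have := Fintype.ofFinite (f.eigenspace c)
      rw [Nat.card_eq_fintype_card, Nat.card_eq_fintype_card, Fintype.card_subtype_compl, Fintype.card_subtype_eq]
    rw [e1, Module.natCard_eq_pow_finrank (K := K)]
    have h5 := h2 c
    obtain ⟨t, ht⟩ : ∃ t, Nat.card K = t + 2 := ⟨Nat.card K - 2, by omega⟩
    rw [ht]
    have e2 : (t + 2) ^ 2 - 1 = t * t + 4 * t + 3 := by
      have : (t + 2) ^ 2 = t * t + 4 * t + 3 + 1 := by ring
      omega
    rw [e2]
    interval_cases finrank K (f.eigenspace c)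
    · simp
    · rw [pow_one]
      have : t + 2 - 1 = t + 1 := by omega
      rw [this]; nlinarith
    · rw [e2]
  have h6 : 2 * ∑ c : K, Nat.card {v : f.eigenspace c // v ≠ 0} ≤ 2 * (2 * (Nat.card K ^ 2 - 1)) := by
    rw [Finset.mul_sum]
    refine (Finset.sum_le_sum (fun c _ => h3 c)).trans ?_
    rw [← Finset.sum_mul, ← mul_assoc]
    refine Nat.mul_le_mul_right _ ?_
    have := sum_finrank_le' f.eigenspaces_iSupIndep
    omega
  omega

end Count

section TTs

variable {p : ℕ} [Fact p.Prime] {K : Type u} [Field K] [Finite K] {V : Type u} [AddCommGroup V] [Module (ZMod p) V]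
  [Module K V] [Finite V] {W W' : Type u} [AddCommGroup W] [Module K W] [AddCommGroup W'] [Module K W']
  {G A B : Subgroup (V ≃ₗ[ZMod p] V)} {h : ℕ}

/-- an element of `A` as a `K`-linear map -/
def TT.toA (T : TT p K V W W' G A B h) {a : V ≃ₗ[ZMod p] V} (ha : a ∈ A) : Module.End K V :=
  { toFun := fun v => a v, map_add' := map_add a, map_smul' := fun c v => T.linA a ha c v }

def TT.toB (T : TT p K V W W' G A B h) {b : V ≃ₗ[ZMod p] V} (hb : b ∈ B) : Module.End K V :=
  { toFun := fun v => b v, map_add' := map_add b, map_smul' := fun c v => T.linB b hb c v }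

theorem TT.finrank_four (T : TT p K V W W' G A B h) : finrank K V = 4 := by
  have := T.D.finL
  have := T.D.finR
  have : Module.Finite K W := Module.Finite.of_finite
  have : Module.Finite K W' := Module.Finite.of_finite
  rw [← T.D.φ.finrank_eq, Module.finrank_tensorProduct, T.rkW, T.rkW']

/-- if an eigenspace of `a b` has dimension at least `3`, then `a` is a scalar -/
theorem TT.scalar_of_three (T : TT p K V W W' G A B h) {a b : V ≃ₗ[ZMod p] V} (ha : a ∈ A) (hb : b ∈ B) {c : K}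
    (h3 : 3 ≤ finrank K ((T.toA ha * T.toB hb).eigenspace c)) : ∃ d : K, ∀ v, a v = d • v := by
  have := T.D.finL
  have := T.D.finR
  have hW : Module.Finite K W := Module.Finite.of_finite
  have hW' : Module.Finite K W' := Module.Finite.of_finite
  have hV : Module.Finite K V := Module.Finite.of_finite
  have ha' : T.toA ha ∈ linSet K V (A : Set (V ≃ₗ[ZMod p] V)) := ⟨a, ha, fun v => rfl⟩
  have hb' : T.toB hb ∈ linSet K V (B : Set (V ≃ₗ[ZMod p] V)) := ⟨b, hb, fun v => rfl⟩
  obtain ⟨d, hd⟩ := LinearMap.exists_eq_smul_id_of_forall_notLinearIndependent (f := T.D.ρ (T.toA ha)) (by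
    intro w hind
    have hw : w ≠ 0 := hind.ne_zero 0
    -- `w ⊗ W'` meets the eigenspace
    have h1 : finrank K (LinearMap.range (rmap T.D w)) = 2 := by
      rw [LinearMap.finrank_range_of_inj (rmap_inj T.D hw), T.rkW']
    have h2 := Submodule.finrank_sup_add_finrank_inf_eq (LinearMap.range (rmap T.D w))
      ((T.toA ha * T.toB hb).eigenspace c)
    have h5 : finrank K ↥(LinearMap.range (rmap T.D w) ⊔ (T.toA ha * T.toB hb).eigenspace c) ≤ 4 := by
      rw [← T.finrank_four]; exact Submodule.finrank_le _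
    have h6 : LinearMap.range (rmap T.D w) ⊓ (T.toA ha * T.toB hb).eigenspace c ≠ ⊥ := by
      intro h0
      rw [h0, finrank_bot] at h2
      omega
    obtain ⟨v, ⟨⟨w', rfl⟩, hv2⟩, hv0⟩ := Submodule.exists_mem_ne_zero_of_ne_bot h6
    have hv2' : (T.toA ha * T.toB hb) (rmap T.D w w') = c • rmap T.D w w' := Module.End.mem_eigenspace_iff.1 hv2
    rw [Module.End.mul_apply, rmap_apply, T.D.hc _ hb', T.D.hl _ ha', ← map_smul, ← TensorProduct.tmul_smul] at hv2'
    have h7 := T.D.φ.injective hv2'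
    -- nonzero
    have h8 : T.D.ρ (T.toA ha) w ≠ 0 := by
      have := hind.ne_zero 1
      simpa using this
    have h9 : T.D.ρ' (T.toB hb) w' ≠ 0 := by
      intro h0
      rw [h0, TensorProduct.tmul_zero] at h7
      have h10 : (T.toA ha * T.toB hb) (rmap T.D w w') = 0 := by
        rw [Module.End.mul_apply, rmap_apply, T.D.hc _ hb', T.D.hl _ ha', h0, TensorProduct.tmul_zero, map_zero]
      have h11 : a (b (rmap T.D w w')) = 0 := h10
      rw [LinearEquiv.map_eq_zero_iff, LinearEquiv.map_eq_zero_iff] at h11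
      exact hv0 h11
    obtain ⟨e, he, -⟩ := tmul_eq h8 h9 h7
    rw [LinearIndependent.pair_iff] at hind
    have he2 : w = (e : K) • T.D.ρ (T.toA ha) w := he
    have := hind 1 (-(e : K)) (by rw [neg_smul, one_smul, ← he2, add_neg_cancel])
    exact one_ne_zero this.1)
  refine ⟨d, fun v => ?_⟩
  have h2 : T.toA ha = (d • LinearMap.id : Module.End K V) := by
    apply T.D.ext
    intro w w'
    rw [T.D.hl _ ha', hd, LinearMap.smul_apply, LinearMap.smul_apply, LinearMap.id_apply, Module.End.one_apply,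
      ← map_smul, TensorProduct.smul_tmul']
  exact LinearMap.congr_fun h2 v

/-- the number of eigenvectors of `a b` -/
theorem TT.eig (T : TT p K V W W' G A B h) {a b : V ≃ₗ[ZMod p] V} (ha : a ∈ A) (hb : b ∈ B)
    (hns : ¬ ((∃ c : K, ∀ v, a v = c • v) ∧ (∃ c : K, ∀ v, b v = c • v))) :
    Nat.card {v : V // v ≠ 0 ∧ ∃ c : K, a (b v) = c • v} ≤ 2 * (Nat.card K ^ 2 - 1) := by
  refine card_eig (T.toA ha * T.toB hb) T.finrank_four (fun c => ?_)
  by_contra hc
  have h3 : 3 ≤ finrank K ((T.toA ha * T.toB hb).eigenspace c) := by omega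
  refine hns ⟨T.scalar_of_three ha hb h3, ?_⟩
  refine T.symm.scalar_of_three hb ha (c := c) ?_
  have e : (T.symm.toA hb * T.symm.toB ha : Module.End K V) = T.toA ha * T.toB hb := by
    ext v
    exact (LinearEquiv.congr_fun (T.comm a ha b hb) v).symm
  rw [e]
  exact h3

end TTs

section Rank2

variable {p : ℕ} [Fact p.Prime] {V : Type u} [AddCommGroup V] [Module (ZMod p) V]

theorem sum_pow_eq_zero {z : V ≃ₗ[ZMod p] V} {r : ℕ} (hr : z ^ r = 1) (hz : ∀ v : V, z v = v → v = 0) (v : V) :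
    ∑ i ∈ Finset.range r, (z ^ i) v = 0 := by
  apply hz
  rw [map_sum]
  have h1 : ∀ i, z ((z ^ i) v) = (z ^ (i + 1)) v := fun i => by rw [pow_succ']; rfl
  rw [Finset.sum_congr rfl (fun i _ => h1 i)]
  have h2 := Finset.sum_range_succ' (fun i => (z ^ i) v) r
  have h3 := Finset.sum_range_succ (fun i => (z ^ i) v) r
  rw [h3, hr, pow_zero] at h2
  exact (add_right_cancel h2).symm

/-- **two commuting elements of order `r` that generate a non-cyclic group: some non-trivial element of the group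
has a fixed vector** -/
theorem exists_fixed [Nontrivial V] {x y : V ≃ₗ[ZMod p] V} (hxy : x * y = y * x) {r : ℕ} (hr : r.Prime) (hrp : r ≠ p)
    (hx : x ^ r = 1) (hy : y ^ r = 1) : (∃ i, i < r ∧ 0 < i ∧ ∃ v : V, v ≠ 0 ∧ (y ^ i) v = v) ∨
      ∃ j, ∃ v : V, v ≠ 0 ∧ (x * y ^ j) v = v := by
  by_contra hc
  push Not at hc
  obtain ⟨h1, h2⟩ := hc
  have hy' : ∀ i, i < r → 0 < i → ∀ v : V, (y ^ i) v = v → v = 0 := by
    intro i h3 h4 v h5
    by_contra h6
    exact h1 i h3 h4 v h6 h5
  have hxy' : ∀ j, ∀ v : V, (x * y ^ j) v = v → v = 0 := by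
    intro j v h5
    by_contra h6
    exact h2 j v h6 h5
  obtain ⟨v, hv⟩ := exists_ne (0 : V)
  have hc1 : Commute x y := hxy
  have e1 : ∀ j, ∑ i ∈ Finset.range r, ((x * y ^ j) ^ i) v = 0 := by
    intro j
    refine sum_pow_eq_zero ?_ (hxy' j) v
    rw [(hc1.pow_right j).mul_pow, hx, ← pow_mul, mul_comm j r, pow_mul, hy, one_pow, one_mul]
  have e2 : ∑ j ∈ Finset.range r, ∑ i ∈ Finset.range r, ((x * y ^ j) ^ i) v = 0 :=
    Finset.sum_eq_zero (fun j _ => e1 j)
  rw [Finset.sum_comm] at e2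
  have e3 : ∀ i ∈ Finset.range r, i ≠ 0 → ∑ j ∈ Finset.range r, ((x * y ^ j) ^ i) v = 0 := by
    intro i hi hi0
    have h3 : ∀ j, ((x * y ^ j) ^ i) v = (x ^ i) (((y ^ i) ^ j) v) := by
      intro j
      rw [(hc1.pow_right j).mul_pow, ← pow_mul, mul_comm j i, pow_mul]; rfl
    rw [Finset.sum_congr rfl (fun j _ => h3 j), ← map_sum, sum_pow_eq_zero (z := y ^ i) ?_
      (hy' i (Finset.mem_range.1 hi) (Nat.pos_of_ne_zero hi0)) v, map_zero]
    rw [← pow_mul, mul_comm, pow_mul, hy, one_pow]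
  rw [Finset.sum_eq_single_of_mem 0 (Finset.mem_range.2 hr.pos) e3] at e2
  have e4 : ∑ j ∈ Finset.range r, ((x * y ^ j) ^ 0) v = r • v := by
    rw [Finset.sum_congr rfl (fun j _ => show ((x * y ^ j) ^ 0) v = v by rw [pow_zero]; rfl), Finset.sum_const,
      Finset.card_range]
  rw [e4, ← Nat.cast_smul_eq_nsmul (ZMod p), smul_eq_zero] at e2
  rcases e2 with h3 | h3
  · rw [ZMod.natCast_eq_zero_iff] at h3
    exact hrp ((Nat.prime_dvd_prime_iff_eq (Fact.out : p.Prime) hr).1 h3).symm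
  · exact hv h3

/-- `r ∣ h` -/
theorem dvd_h_of_rank2 [Finite V] [Nontrivial V] {G : Subgroup (V ≃ₗ[ZMod p] V)} {h : ℕ} (hh : Half G h)
    {x y : V ≃ₗ[ZMod p] V} (hxG : x ∈ G) (hyG : y ∈ G) (hxy : x * y = y * x) {r : ℕ} (hr : r.Prime) (hrp : r ≠ p)
    (hx : x ^ r = 1) (hy : y ^ r = 1) (hy1 : y ≠ 1) (hxy1 : ∀ j, x * y ^ j ≠ 1) : r ∣ h := by
  have hc1 : Commute x y := hxy
  have key : ∀ z ∈ G, z ^ r = 1 → z ≠ 1 → (∃ v : V, v ≠ 0 ∧ z v = v) → r ∣ h := by
    rintro z hz hzr hz1 ⟨v, hv, hzv⟩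
    have : Fact r.Prime := ⟨hr⟩
    have h1 : orderOf z = r := orderOf_eq_prime hzr hz1
    exact dvd_h hh (g := (⟨z, hz⟩ : G)) (by rw [Subgroup.orderOf_mk, h1]) hv hzv
  rcases exists_fixed hxy hr hrp hx hy with ⟨i, hi, hi0, hv⟩ | ⟨j, hv⟩
  · refine key _ (G.pow_mem hyG i) ?_ ?_ hv
    · rw [← pow_mul, mul_comm, pow_mul, hy, one_pow]
    · intro h1
      have : Fact r.Prime := ⟨hr⟩
      have h2 : orderOf y = r := orderOf_eq_prime hy hy1
      have h3 := orderOf_dvd_of_pow_eq_one h1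
      rw [h2] at h3
      exact absurd (Nat.le_of_dvd hi0 h3) (by omega)
  · refine key _ (G.mul_mem hxG (G.pow_mem hyG j)) ?_ (hxy1 j) hv
    rw [(hc1.pow_right j).mul_pow, hx, ← pow_mul, mul_comm j r, pow_mul, hy, one_pow, one_mul]

end Rank2

end Cfsg.Agent.H138.HT
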