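import Cfsg.Agent.H828.HT.Basic
import Cfsg.Agent.Omega.NO1.Comp.Field
import Cfsg.Prelude.Def_CaseTheorems

/-!
# S3540, section 4: two commuting quasisimple groups on `V = W ⊗ W'`, both factors of dimension `2` over `K`

`Cfsg.Agent.H138.HT.TT`: the setting.  `D : Dec (linSet K V A) (linSet K V B) W W'` is the tensor decomposition
(`Omega/NO1/Comp/Tens.lean`): `D.φ : W ⊗[K] W' ≃ₗ[K] V`, `A` acts on `W` through `D.ρ`, `B` on `W'` through `D.ρ'`.
-/

set_option autoImplicit false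

universe u

namespace Cfsg.Agent.H138.HT

open Cfsg.Agent.H828.HT Cfsg.Agent.Omega.NO1.Comp

/-- the case `k = 2`, `w = 2` of section 4 -/
structure TT (p : ℕ) [Fact p.Prime] (K : Type u) [Field K] (V : Type u) [AddCommGroup V] [Module (ZMod p) V]
    [Module K V] (W W' : Type u) [AddCommGroup W] [Module K W] [AddCommGroup W'] [Module K W']
    (G A B : Subgroup (V ≃ₗ[ZMod p] V)) (h : ℕ) where
  half : Half G h
  two_le : 2 ≤ h
  cop : ¬ p ∣ Nat.card G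
  leA : A ≤ G
  leB : B ≤ G
  qsA : Cfsg.IsQuasisimple A
  qsB : Cfsg.IsQuasisimple B
  comm : ∀ a ∈ A, ∀ b ∈ B, a * b = b * a
  perm : ∀ g ∈ G, ((∀ a ∈ A, g * a * g⁻¹ ∈ A) ∧ (∀ b ∈ B, g * b * g⁻¹ ∈ B)) ∨
    ((∀ a ∈ A, g * a * g⁻¹ ∈ B) ∧ (∀ b ∈ B, g * b * g⁻¹ ∈ A))
  linA : ∀ a ∈ A, ∀ (c : K) (v : V), a (c • v) = c • a v
  linB : ∀ b ∈ B, ∀ (c : K) (v : V), b (c • v) = c • b v
  sch : ∀ f : V →+ V, (∀ a ∈ A, ∀ v, f (a v) = a (f v)) → (∀ b ∈ B, ∀ v, f (b v) = b (f v)) →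
    ∃ c : K, ∀ v, f v = c • v
  D : Dec (linSet K V (A : Set (V ≃ₗ[ZMod p] V))) (linSet K V (B : Set (V ≃ₗ[ZMod p] V))) W W'
  rkW : Module.finrank K W = 2
  rkW' : Module.finrank K W' = 2

/-- the roles of `A` and `B` may be interchanged -/
noncomputable def TT.symm {p : ℕ} [Fact p.Prime] {K : Type u} [Field K] {V : Type u} [AddCommGroup V]
    [Module (ZMod p) V] [Module K V] {W W' : Type u} [AddCommGroup W] [Module K W] [AddCommGroup W'] [Module K W']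
    {G A B : Subgroup (V ≃ₗ[ZMod p] V)} {h : ℕ} (T : TT p K V W W' G A B h) : TT p K V W' W G B A h where
  half := T.half
  two_le := T.two_le
  cop := T.cop
  leA := T.leB
  leB := T.leA
  qsA := T.qsB
  qsB := T.qsA
  comm b hb a ha := (T.comm a ha b hb).symm
  perm g hg := (T.perm g hg).imp (fun h => ⟨h.2, h.1⟩) (fun h => ⟨h.2, h.1⟩)
  linA := T.linB
  linB := T.linA
  sch f h1 h2 := T.sch f h2 h1
  D := T.D.symm
  rkW := T.rkW'
  rkW' := T.rkW

end Cfsg.Agent.H138.HT
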